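import Cfsg.Agent.Lib.Struct78.FourPrimes.Tools

/-!
Normal `p`-subgroups of a subgroup of a finite soluble group; the case where all cores are cyclic.
-/

set_option autoImplicit false
set_option linter.style.haveILetI false

namespace CfsgLib.FourPrimes

open Subgroup
open scoped commutatorElement

variable {G : Type*} [Group G]

/-- `O_u(H)` as a subgroup of `G`. -/
def coreOf (u : ℕ) (H : Subgroup G) : Subgroup G := (Cfsg.pCore u H).map H.subtype

theorem coreOf_le (u : ℕ) (H : Subgroup G) : coreOf u H ≤ H := map_subtype_le _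

theorem le_normalizer_coreOf (u : ℕ) (H : Subgroup G) :
    H ≤ normalizer (coreOf u H : Set G) := by
  have hn : (Cfsg.pCore u H).Normal := CfsgLib.Fitting.pCore_normal u
  have key : ∀ g ∈ H, ∀ a ∈ coreOf u H, g * a * g⁻¹ ∈ coreOf u H := by
    rintro g hg _ ⟨a, ha, rfl⟩
    exact ⟨_, hn.conj_mem a ha ⟨g, hg⟩, rfl⟩
  intro g hg
  refine mem_normalizer_iff.2 fun a => ⟨key g hg a, fun h => ?_⟩
  have := key g⁻¹ (H.inv_mem hg) _ h
  convert this using 1
  group

theorem coreOf_isPGroup [Finite G] (u : ℕ) (H : Subgroup G) : IsPGroup u (coreOf u H) :=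
  (CfsgLib.Fitting.pCore_isPGroup u).map _

theorem le_coreOf {u : ℕ} {H W : Subgroup G} (hWH : W ≤ H) (hn : H ≤ normalizer (W : Set G))
    (hp : IsPGroup u W) : W ≤ coreOf u H := by
  have h1 : W.subgroupOf H ≤ Cfsg.pCore u H :=
    CfsgLib.Fitting.le_pCore (normal_subgroupOf_of_le_normalizer hn) hp.comap_subtype
  intro w hw
  exact ⟨⟨w, hWH hw⟩, h1 hw, rfl⟩

theorem commute_coreOf [Finite G] {u v : ℕ} (hu : u.Prime) (hv : v.Prime) (hne : u ≠ v)
    {H : Subgroup G} {x y : G} (hx : x ∈ coreOf u H) (hy : y ∈ coreOf v H) : Commute x y := by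
  obtain ⟨a, ha, rfl⟩ := hx
  obtain ⟨b, hb, rfl⟩ := hy
  exact (CfsgLib.Fitting.commute_pCore_of_ne hu hv hne ha hb).map H.subtype

theorem coreOf_eq_bot [Finite G] {u : ℕ} (hu : u.Prime) {H : Subgroup G}
    (h : ¬ u ∣ Nat.card H) : coreOf u H = ⊥ := by
  haveI := Fact.mk hu
  obtain ⟨n, hn⟩ := IsPGroup.iff_card.mp (coreOf_isPGroup u H)
  rcases n with _ | n
  · exact Subgroup.card_eq_one.mp (by simpa using hn)
  · exact absurd ((dvd_pow_self u (Nat.succ_ne_zero n)).trans
      (hn ▸ card_dvd_of_le (coreOf_le u H))) h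

/-- A subgroup normalised by a soluble group contains an elementary subgroup normalised by it. -/
theorem exists_elementary [Finite G] [Group.IsSolvable G] {H N : Subgroup G} (hNH : N ≤ H)
    (hn : H ≤ normalizer (N : Set G)) (hN : N ≠ ⊥) :
    ∃ (W : Subgroup G) (u : ℕ), u.Prime ∧ W ≤ N ∧ W ≠ ⊥ ∧ H ≤ normalizer (W : Set G) ∧
      Cfsg.IsElementaryAbelian u W ∧ u ∣ Nat.card W := by
  haveI := normal_subgroupOf_of_le_normalizer hn
  obtain ⟨W, u, hu, hWn, hW1, hWN, hWc, hWe⟩ := CfsgLib.Spectrum.exists_normal_elementary_le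
    (N.subgroupOf H) (fun h => hN (by
      rw [subgroupOf_eq_bot] at h
      exact disjoint_self.mp (h.mono_right hNH))) inferInstance
  haveI := Fact.mk hu
  have hW' : W.map H.subtype ≠ ⊥ := fun h =>
    hW1 ((map_eq_bot_iff_of_injective _ H.subtype_injective).mp h)
  have hexp : ∀ w ∈ W.map H.subtype, w ^ u = 1 := by
    rintro _ ⟨w, hw, rfl⟩
    rw [← map_pow, hWe w hw, map_one]
  refine ⟨W.map H.subtype, u, hu, ?_, hW', ?_, ⟨⟨⟨?_⟩⟩, hexp⟩, ?_⟩
  · rintro _ ⟨w, hw, rfl⟩
    exact hWN hw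
  · intro g hg
    have key : ∀ g ∈ H, ∀ a ∈ W.map H.subtype, g * a * g⁻¹ ∈ W.map H.subtype := by
      rintro g hg _ ⟨a, ha, rfl⟩
      exact ⟨_, hWn.conj_mem a ha ⟨g, hg⟩, rfl⟩
    refine mem_normalizer_iff.2 fun a => ⟨key g hg a, fun h => ?_⟩
    have := key g⁻¹ (H.inv_mem hg) _ h
    convert this using 1
    group
  · rintro ⟨_, ⟨a, ha, rfl⟩⟩ ⟨_, ⟨b, hb, rfl⟩⟩
    refine Subtype.ext ?_
    show H.subtype a * H.subtype b = H.subtype b * H.subtype a
    rw [← map_mul, ← map_mul,
      show a * b = b * a from congrArg Subtype.val (mul_comm' (⟨a, ha⟩ : W) ⟨b, hb⟩)]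
  · obtain ⟨⟨w, hw⟩, hw1⟩ := Subgroup.ne_bot_iff_exists_ne_one.mp hW'
    exact orderOf_eq_of_mem ⟨⟨⟨fun a b => Subtype.ext (by
        obtain ⟨_, a', ha', rfl⟩ := a
        obtain ⟨_, b', hb', rfl⟩ := b
        show H.subtype a' * H.subtype b' = H.subtype b' * H.subtype a'
        rw [← map_mul, ← map_mul,
          show a' * b' = b' * a' from congrArg Subtype.val (mul_comm' (⟨a', ha'⟩ : W) ⟨b', hb'⟩)])⟩⟩,
      hexp⟩ hw (fun h => hw1 (Subtype.ext h)) ▸ Subgroup.orderOf_mk w hw ▸ orderOf_dvd_natCard _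

/-- An element of prime order centralising all other cores lies in its core. -/
theorem mem_coreOf_of_commute [Finite G] [Group.IsSolvable G] {H : Subgroup G} {t : ℕ}
    [ht : Fact t.Prime] {g : G} (hg : g ∈ H) (ho : orderOf g = t)
    (hc : ∀ u : ℕ, u.Prime → ∀ y ∈ coreOf u H, Commute g y) : g ∈ coreOf t H := by
  let g' : H := ⟨g, hg⟩
  have hgF : g' ∈ Cfsg.fittingSubgroup H := by
    apply CfsgLib.Fitting.centralizer_fitting_le
    have hle : Cfsg.fittingSubgroup H ≤ centralizer ({g'} : Set H) := by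
      rw [CfsgLib.Fitting.fitting_eq_iSup_pCore]
      refine iSup_le fun u y hy => centralizer_singleton_iff.mpr ?_
      exact Subtype.ext (hc u (Nat.prime_of_mem_primeFactors u.2) y ⟨y, hy, rfl⟩).symm.eq
    exact mem_centralizer_iff.mpr fun y hy => centralizer_singleton_iff.mp (hle hy)
  let g'' : Cfsg.fittingSubgroup H := ⟨g', hgF⟩
  have hpg : IsPGroup t (zpowers g'') := IsPGroup.of_card (n := 1) (by
    rw [Nat.card_zpowers, ← Subgroup.orderOf_coe, ← Subgroup.orderOf_coe, pow_one]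
    exact ho)
  obtain ⟨P, hP⟩ := hpg.exists_le_sylow
  exact ⟨g', CfsgLib.Fitting.sylow_fitting_eq_pCore P ▸
    mem_map_of_mem _ (hP (mem_zpowers g'')), rfl⟩

/-- If all cores of a finite soluble group are cyclic, its largest prime has no elementary
subgroup of order `t ^ 2`. -/
theorem no_two_largest [Finite G] [Group.IsSolvable G] {H : Subgroup G}
    (hcyc : ∀ u : ℕ, u.Prime → IsCyclic (coreOf u H)) {t : ℕ} [ht : Fact t.Prime]
    (hmax : ∀ u : ℕ, u.Prime → u ∣ Nat.card H → u ≤ t) : ¬ Two t H := by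
  rintro ⟨E, hEH, hEe, hE2⟩
  have hcyc' : ∀ u : ℕ, u.Prime → IsCyclic (Cfsg.pCore u H) := fun u hu =>
    haveI := hcyc u hu
    isCyclic_of_injective
      ((H.subtype.comp (Cfsg.pCore u H).subtype).codRestrict (coreOf u H) fun y => ⟨y, y.2, rfl⟩)
      fun a b h => Subtype.ext (Subtype.ext (congrArg (fun z : coreOf u H => (z : G)) h))
  set F := Cfsg.fittingSubgroup H with hF
  -- commutators centralise the cyclic cores
  have hcomm : ∀ g x : H, ⁅g, x⁆ ∈ F := by
    intro g x
    apply CfsgLib.Fitting.centralizer_fitting_le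
    have hle : F ≤ centralizer ({⁅g, x⁆} : Set H) := by
      rw [hF, CfsgLib.Fitting.fitting_eq_iSup_pCore]
      refine iSup_le fun u y hy => centralizer_singleton_iff.mpr ?_
      haveI := hcyc' u (Nat.prime_of_mem_primeFactors u.2)
      have hnm : ∀ h : H, h ∈ normalizer (Cfsg.pCore (u : ℕ) H : Set H) := fun h => by
        rw [normalizer_eq_top_iff.mpr (CfsgLib.Fitting.pCore_normal (G := H) (u : ℕ))]
        trivial
      let φ : normalizer (Cfsg.pCore (u : ℕ) H : Set H) →* MulAut (Cfsg.pCore (u : ℕ) H) :=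
        (Cfsg.pCore (u : ℕ) H).normalizerMonoidHom
      have h1 : φ (⟨⁅g, x⁆, hnm _⟩ : normalizer (Cfsg.pCore (u : ℕ) H : Set H)) = 1 := by
        have h2 : (⟨⁅g, x⁆, hnm _⟩ : normalizer (Cfsg.pCore (u : ℕ) H : Set H)) =
            ⁅(⟨g, hnm g⟩ : normalizer (Cfsg.pCore (u : ℕ) H : Set H)), ⟨x, hnm x⟩⁆ := rfl
        rw [h2, map_commutatorElement, commutatorElement_eq_one_iff_mul_comm]
        have := (IsCyclic.mulAutMulEquiv (Cfsg.pCore (u : ℕ) H))
        exact this.injective (by rw [map_mul, map_mul, mul_comm])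
      have h3 : ⁅g, x⁆ * y * ⁅g, x⁆⁻¹ = y :=
        congrArg (fun f : MulAut (Cfsg.pCore (u : ℕ) H) => ((f ⟨y, hy⟩ : Cfsg.pCore (u : ℕ) H) : H)) h1
      exact (mul_inv_eq_iff_eq_mul.mp h3).symm
    exact mem_centralizer_iff.mpr fun y hy => centralizer_singleton_iff.mp (hle hy)
  have hmem : ∀ e ∈ E, e ≠ 1 → e ∈ coreOf t H := by
    intro e he he1
    have heo := orderOf_eq_of_mem hEe he he1
    let e' : H := ⟨e, hEH he⟩
    have heo' : orderOf e' = t := by rw [Subgroup.orderOf_mk]; exact heo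
    -- the other cores are centralised
    have hothers : ∀ u : ℕ, u.Prime → u ≠ t → ∀ y ∈ Cfsg.pCore u H, Commute e' y := by
      intro u hu hut y hy
      haveI := Fact.mk hu
      haveI := hcyc' u hu
      obtain ⟨n, hn⟩ := IsPGroup.iff_card.mp (CfsgLib.Fitting.pCore_isPGroup (G := H) u)
      rcases n with _ | n
      · have : y = 1 := by
          rw [Subgroup.card_eq_one.mp (show Nat.card (Cfsg.pCore u H) = 1 by simpa using hn)] at hy
          exact hy
        rw [this]
        exact Commute.one_right _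
      · have hud : u ∣ Nat.card H :=
          (dvd_pow_self u (Nat.succ_ne_zero n)).trans (hn ▸ card_subgroup_dvd_card _)
        have hlt : u < t := lt_of_le_of_ne (hmax u hu hud) hut
        refine commute_of_cyclic (Z := Cfsg.pCore u H) ?_ ?_ y hy
        · rw [normalizer_eq_top_iff.mpr (CfsgLib.Fitting.pCore_normal (G := H) u)]
          trivial
        · rw [heo', hn, Nat.totient_prime_pow_succ hu]
          refine Nat.Coprime.mul_right
            (((Nat.coprime_primes ht.out hu).mpr (Ne.symm hut)).pow_right n)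
            ((ht.out.coprime_iff_not_dvd).mpr fun h => ?_)
          have := hu.two_le
          have := Nat.le_of_dvd (by omega) h
          omega
    set P := Cfsg.pCore t H ⊔ zpowers e' with hP
    haveI : (Cfsg.pCore t H).Normal := CfsgLib.Fitting.pCore_normal t
    have hPp : IsPGroup t P := (CfsgLib.Fitting.pCore_isPGroup t).to_sup_of_normal_left
      (IsPGroup.of_card (n := 1) (by rw [Nat.card_zpowers, heo', pow_one]))
    set N := F ⊔ zpowers e' with hN
    have hPN : P ≤ N := sup_le ((CfsgLib.Fitting.pCore_le_fitting ht.out).trans le_sup_left)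
      le_sup_right
    have hNn : N.Normal := ⟨fun x hx g => by
      rw [show g * x * g⁻¹ = ⁅g, x⁆ * x by rw [commutatorElement_def]; group]
      exact N.mul_mem (mem_sup_left (hcomm g x)) hx⟩
    have hNP : N ≤ normalizer (P : Set H) := by
      refine sup_le ?_ ((le_sup_right : zpowers e' ≤ P).trans le_normalizer)
      rw [hF, CfsgLib.Fitting.fitting_eq_iSup_pCore]
      refine iSup_le fun u => ?_
      rcases eq_or_ne (u : ℕ) t with h | h
      · rw [h]
        exact (le_sup_left : Cfsg.pCore t H ≤ P).trans le_normalizer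
      · refine le_trans (fun y hy => ?_) (centralizer_le_normalizer _)
        have hu := Nat.prime_of_mem_primeFactors u.2
        have hle : P ≤ centralizer ({y} : Set H) := sup_le
          (fun z hz => centralizer_singleton_iff.mpr
            (CfsgLib.Fitting.commute_pCore_of_ne ht.out hu (Ne.symm h) hz hy))
          (zpowers_le.mpr (centralizer_singleton_iff.mpr (hothers u hu h y hy)))
        exact mem_centralizer_iff.mpr fun z hz => centralizer_singleton_iff.mp (hle hz)
    have hPsub : P.IsSubnormal :=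
      .step P N hPN hNn.isSubnormal (normal_subgroupOf_of_le_normalizer hNP)
    exact ⟨e', CfsgLib.Fitting.subnormal_pGroup_le_pCore hPsub hPp
      ((le_sup_right : zpowers e' ≤ P) (mem_zpowers e')), rfl⟩
  have hEc : E ≤ coreOf t H := fun e he => by
    rcases eq_or_ne e 1 with rfl | h
    · exact one_mem _
    · exact hmem e he h
  haveI := hcyc t ht.out
  haveI : IsCyclic E := isCyclic_of_injective (inclusion hEc) (inclusion_injective hEc)
  obtain ⟨g, hg⟩ := IsCyclic.exists_ofOrder_eq_natCard (α := E)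
  have h1 : orderOf g ∣ t := orderOf_dvd_of_pow_eq_one (Subtype.ext (by simpa using hEe.2 g g.2))
  rw [hg, hE2] at h1
  have := Nat.le_of_dvd ht.out.pos h1
  have := ht.out.one_lt
  nlinarith

/-- A product of powers in the subgroup generated by two commuting elements. -/
theorem mem_sup_zpowers {z w x : G} (hzw : Commute z w) (hx : x ∈ zpowers z ⊔ zpowers w) :
    ∃ i j : ℤ, x = z ^ i * w ^ j := by
  have hle : zpowers z ≤ normalizer (zpowers w : Set G) := by
    refine le_trans (fun a ha => ?_) (centralizer_le_normalizer _)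
    obtain ⟨i, rfl⟩ := ha
    refine mem_centralizer_iff.mpr fun b hb => ?_
    obtain ⟨j, rfl⟩ := hb
    exact (hzw.zpow_zpow i j).symm.eq
  rw [← SetLike.mem_coe, coe_mul_of_left_le_normalizer_right _ _ hle] at hx
  obtain ⟨_, ⟨i, rfl⟩, _, ⟨j, rfl⟩, rfl⟩ := hx
  exact ⟨i, j, rfl⟩

/-- Two independent commuting elements of order `q`. -/
theorem two_sup [Finite G] {q : ℕ} [hq : Fact q.Prime] {z w : G} (hz : orderOf z = q)
    (hw : w ^ q = 1) (hzw : Commute z w) (hne : w ∉ zpowers z) :
    Cfsg.IsElementaryAbelian q (zpowers z ⊔ zpowers w) ∧ Two q (zpowers z ⊔ zpowers w) := by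
  have hzq : z ^ q = 1 := hz ▸ pow_orderOf_eq_one z
  have hel : Cfsg.IsElementaryAbelian q (zpowers z ⊔ zpowers w) := by
    refine ⟨⟨⟨fun a b => Subtype.ext ?_⟩⟩, fun a ha => ?_⟩
    · obtain ⟨i, j, hi⟩ := mem_sup_zpowers hzw a.2
      obtain ⟨k, l, hk⟩ := mem_sup_zpowers hzw b.2
      have h1 : Commute (z ^ i * w ^ j) (z ^ k * w ^ l) :=
        (((Commute.refl z).zpow_zpow i k).mul_right (hzw.zpow_zpow i l)).mul_left
          ((hzw.symm.zpow_zpow j k).mul_right ((Commute.refl w).zpow_zpow j l))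
      show (a : G) * b = b * a
      rw [hi, hk]
      exact h1.eq
    · obtain ⟨i, j, rfl⟩ := mem_sup_zpowers hzw ha
      rw [(hzw.zpow_zpow i j).mul_pow, ← zpow_natCast, ← zpow_natCast (w ^ j), ← zpow_mul,
        ← zpow_mul, mul_comm i, mul_comm j, zpow_mul, zpow_mul, zpow_natCast, zpow_natCast, hzq,
        hw, one_zpow, one_zpow, one_mul]
  refine ⟨hel, ((two_or_card_eq hel fun h => ?_).resolve_left fun h => hne ?_)⟩
  · have : z ∈ (⊥ : Subgroup G) := h ▸ mem_sup_left (mem_zpowers z)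
    rw [Subgroup.mem_bot] at this
    rw [this, orderOf_one] at hz
    exact hq.out.ne_one hz.symm
  · rw [eq_of_le_of_card_ge (le_sup_left : zpowers z ≤ zpowers z ⊔ zpowers w)
      (by rw [h, Nat.card_zpowers, hz])]
    exact mem_sup_right (mem_zpowers w)

/-- A noncyclic group of odd prime power order has, beside a central element of order `q`, another one. -/
theorem exists_of_not_cyclic [Finite G] {q : ℕ} [hq : Fact q.Prime] (hq2 : q ≠ 2) {Y : Subgroup G}
    (hY : IsPGroup q Y) (hnc : ¬ IsCyclic Y) :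
    ∃ b ∈ Y, orderOf b = q ∧ (∀ y ∈ Y, Commute b y) ∧ ∃ w ∈ Y, w ^ q = 1 ∧ w ∉ zpowers b := by
  haveI : Nontrivial Y := by
    by_contra h
    rw [not_nontrivial_iff_subsingleton] at h
    exact hnc isCyclic_of_subsingleton
  haveI := hY.center_nontrivial
  obtain ⟨n, hn⟩ := IsPGroup.iff_card.mp (hY.to_subgroup (center Y))
  have hdvd : q ∣ Nat.card (center Y) := by
    rcases n with _ | n
    · exact absurd hn (by simpa using (Finite.one_lt_card : 1 < Nat.card (center Y)).ne')
    · exact hn ▸ dvd_pow_self q (Nat.succ_ne_zero n)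
  obtain ⟨b, hb⟩ := exists_prime_orderOf_dvd_card' (G := center Y) q hdvd
  have hb' : orderOf ((b : Y) : G) = q := by rw [Subgroup.orderOf_coe, Subgroup.orderOf_coe, hb]
  refine ⟨_, (b : Y).2, hb', fun y hy =>
    (congrArg Subtype.val (Subgroup.mem_center_iff.mp b.2 ⟨y, hy⟩)).symm, ?_⟩
  by_contra hcon
  push Not at hcon
  refine hnc (CfsgLib.ConstStab.isCyclic_of_unique_prime_subgroup hq2 hY fun x y hx1 hx hy => ?_)
  have hmem : ∀ v : Y, v ^ q = 1 → v ∈ zpowers (b : Y) := fun v hv => by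
    obtain ⟨i, hi⟩ := hcon v v.2 (by simpa using congrArg Subtype.val hv)
    exact ⟨i, Subtype.ext (by simpa using hi)⟩
  have hxb : zpowers x = zpowers (b : Y) := eq_of_le_of_card_ge (zpowers_le.mpr (hmem x hx)) (by
    rw [Nat.card_zpowers, Nat.card_zpowers, Subgroup.orderOf_coe, hb, orderOf_eq_prime hx hx1])
  exact hxb ▸ hmem y hy

/-- Centralizers of normalised subgroups inside normalised subgroups. -/
theorem mem_normalizer_inf {X A : Subgroup G} {g : G} (hX : g ∈ normalizer (X : Set G))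
    (hA : g ∈ normalizer (A : Set G)) :
    g ∈ normalizer ((X ⊓ centralizer (A : Set G) : Subgroup G) : Set G) := by
  have key : ∀ g, g ∈ normalizer (X : Set G) → g ∈ normalizer (A : Set G) →
      ∀ x ∈ X ⊓ centralizer (A : Set G), g * x * g⁻¹ ∈ X ⊓ centralizer (A : Set G) := by
    intro g hX hA x hx
    obtain ⟨hxX, hxA⟩ := Subgroup.mem_inf.mp hx
    refine Subgroup.mem_inf.mpr ⟨(mem_normalizer_iff.1 hX x).1 hxX, mem_centralizer_iff.mpr ?_⟩
    intro a ha
    have h1 : g⁻¹ * a * g⁻¹⁻¹ ∈ A := (mem_normalizer_iff.1 (inv_mem hA) a).1 ha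
    have h2 := mem_centralizer_iff.mp hxA _ h1
    calc a * (g * x * g⁻¹) = g * (g⁻¹ * a * g⁻¹⁻¹ * x) * g⁻¹ := by group
      _ = g * (x * (g⁻¹ * a * g⁻¹⁻¹)) * g⁻¹ := by rw [h2]
      _ = g * x * g⁻¹ * a := by group
  refine mem_normalizer_iff.2 fun a => ⟨key g hX hA a, fun h => ?_⟩
  have := key g⁻¹ (inv_mem hX) (inv_mem hA) _ h
  convert this using 1
  group

theorem mem_zpowers_of_eq [Finite G] {q : ℕ} (hq : q.Prime) {a g : G} (ha : orderOf a = q)
    (hg : g ∈ zpowers a) (hg1 : g ≠ 1) : a ∈ zpowers g := by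
  have h : orderOf g = q := ((Nat.dvd_prime hq).mp (ha ▸ orderOf_dvd_of_mem_zpowers hg)).resolve_left
    (fun h => hg1 (orderOf_eq_one_iff.mp h))
  have := eq_of_le_of_card_ge (zpowers_le.mpr hg) (by rw [Nat.card_zpowers, Nat.card_zpowers, ha, h])
  exact this ▸ mem_zpowers a

theorem commute_of_mem_zpowers {a g h : G} (hgh : Commute g h) (ha : a ∈ zpowers g) :
    Commute a h := by
  obtain ⟨i, rfl⟩ := ha
  exact hgh.zpow_left i

end CfsgLib.FourPrimes
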