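import Cfsg.Agent.Lib.Struct78.FourPrimes.Cores
import Cfsg.Agent.Lib.PGroup.Class2

/-!
A group for three primes acting faithfully on a normal elementary subgroup for a fourth prime.
-/

set_option autoImplicit false
set_option linter.style.haveILetI false

namespace CfsgLib.FourPrimes

open Subgroup
open scoped commutatorElement

variable {G : Type*} [Group G]

theorem le_normalizer_of_conj {H X : Subgroup G} (h : ∀ g ∈ H, ∀ x ∈ X, g * x * g⁻¹ ∈ X) :
    H ≤ normalizer (X : Set G) := fun g hg => mem_normalizer_iff.2 fun a => ⟨h g hg a, fun ha => by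
  have := h g⁻¹ (H.inv_mem hg) _ ha
  convert this using 1
  group⟩

/-- The setting: `H` acts faithfully on `V`. -/
structure Ctx (σ : Set ℕ) (p q r s : ℕ) (V H : Subgroup G) : Prop where
  tri : Tri σ G
  hp : p.Prime
  hq : q.Prime
  hr : r.Prime
  hs : s.Prime
  mp : p ∈ σ
  mq : q ∈ σ
  mr : r ∈ σ
  ms : s ∈ σ
  npq : p ≠ q
  npr : p ≠ r
  nps : p ≠ s
  nqr : q ≠ r
  nqs : q ≠ s
  nrs : r ≠ s
  vn : V.Normal
  hV : Cfsg.IsElementaryAbelian p V
  hV1 : V ≠ ⊥
  faith : H ⊓ centralizer (V : Set G) = ⊥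
  primes : ∀ u : ℕ, u.Prime → u ∣ Nat.card H → u = q ∨ u = r ∨ u = s
  twoq : Two q H
  twor : Two r H
  twos : Two s H
  pairqr : ∃ x ∈ H, ∃ c ∈ H, orderOf x = q ∧ orderOf c = r ∧ Commute x c
  pairqs : ∃ x ∈ H, ∃ c ∈ H, orderOf x = q ∧ orderOf c = s ∧ Commute x c
  pairrs : ∃ x ∈ H, ∃ c ∈ H, orderOf x = r ∧ orderOf c = s ∧ Commute x c

namespace Ctx

variable {σ : Set ℕ} {p q r s : ℕ} {V H : Subgroup G}

theorem swapQR (h : Ctx σ p q r s V H) : Ctx σ p r q s V H :=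
  { tri := h.tri, hp := h.hp, hq := h.hr, hr := h.hq, hs := h.hs, mp := h.mp, mq := h.mr,
    mr := h.mq, ms := h.ms, npq := h.npr, npr := h.npq, nps := h.nps, nqr := h.nqr.symm,
    nqs := h.nrs, nrs := h.nqs, vn := h.vn, hV := h.hV, hV1 := h.hV1, faith := h.faith,
    primes := fun u hu hd => by rcases h.primes u hu hd with h | h | h <;> simp [h]
    twoq := h.twor, twor := h.twoq, twos := h.twos,
    pairqr := let ⟨x, hx, c, hc, h1, h2, h3⟩ := h.pairqr; ⟨c, hc, x, hx, h2, h1, h3.symm⟩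
    pairqs := h.pairrs, pairrs := h.pairqs }

theorem swapRS (h : Ctx σ p q r s V H) : Ctx σ p q s r V H :=
  { tri := h.tri, hp := h.hp, hq := h.hq, hr := h.hs, hs := h.hr, mp := h.mp, mq := h.mq,
    mr := h.ms, ms := h.mr, npq := h.npq, npr := h.nps, nps := h.npr, nqr := h.nqs,
    nqs := h.nqr, nrs := h.nrs.symm, vn := h.vn, hV := h.hV, hV1 := h.hV1, faith := h.faith,
    primes := fun u hu hd => by rcases h.primes u hu hd with h | h | h <;> simp [h]
    twoq := h.twoq, twor := h.twos, twos := h.twor,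
    pairqr := h.pairqs, pairqs := h.pairqr,
    pairrs := let ⟨x, hx, c, hc, h1, h2, h3⟩ := h.pairrs; ⟨c, hc, x, hx, h2, h1, h3.symm⟩ }

theorem swapQS (h : Ctx σ p q r s V H) : Ctx σ p s r q V H := h.swapQR.swapRS.swapQR

theorem normV (h : Ctx σ p q r s V H) (g : G) : g ∈ normalizer (V : Set G) := by
  rw [normalizer_eq_top_iff.mpr h.vn]; trivial

theorem inf_eq_bot (h : Ctx σ p q r s V H) {A : Subgroup G} (hA : A ≤ H) :
    A ⊓ centralizer (V : Set G) = ⊥ :=
  eq_bot_iff.mpr (h.faith ▸ inf_le_inf_right _ hA)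

/-- The centralizer of an elementary group of order at least `q ^ 2` has no elementary `r ^ 2`. -/
theorem no_two_centralizer [Finite G] (h : Ctx σ p q r s V H) {W B : Subgroup G} (hW2 : Two q W)
    (hB : Two r B) (hBW : B ≤ centralizer (W : Set G)) : False := by
  haveI := Fact.mk h.hp
  haveI := Fact.mk h.hq
  haveI := Fact.mk h.hr
  obtain ⟨E, hEW, hEe, hE2⟩ := hW2
  exact no_two_two h.tri h.mp h.mq h.mr h.npq h.npr h.nqr (isPGroup_of_exp h.hV.2) h.hV1
    ⟨E, le_rfl, hEe, hE2⟩ hB (fun g _ => h.normV g) (fun g _ => h.normV g)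
    fun a ha b hb => mem_centralizer_iff.mp (hBW hb) a (hEW ha)

theorem caseI_core [Finite G] [Group.IsSolvable G] (h : Ctx σ p q r s V H) {W M : Subgroup G}
    (hWH : W ≤ H) (hHW : H ≤ normalizer (W : Set G)) (hW : Cfsg.IsElementaryAbelian q W)
    (hW2 : Two q W) (hMH : M ≤ H)
    (hMp : ∀ u : ℕ, u.Prime → u ∣ Nat.card M → u = r ∨ u = s) (hMr : Two r M) (hMs : Two s M)
    {b : G} (hbM : b ∈ M) (hb : orderOf b = r) (hbW : b ∈ centralizer (W : Set G))
    (hMb : M ≤ normalizer (zpowers b : Set G)) : False := by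
  haveI := h.vn
  haveI := Fact.mk h.hp
  haveI := Fact.mk h.hq
  haveI := Fact.mk h.hr
  haveI := Fact.mk h.hs
  obtain ⟨E, hEM, hEe, hE2⟩ := hMs
  have hWq : IsPGroup q W := isPGroup_of_exp hW.2
  have hbp : IsPGroup r (zpowers b) := IsPGroup.of_card (n := 1) (by rw [Nat.card_zpowers, hb, pow_one])
  have hW1 : W ≠ ⊥ := fun hb' => by
    obtain ⟨E', hE', _, hE'2⟩ := hW2
    rw [hb', le_bot_iff] at hE'
    rw [hE', card_bot] at hE'2
    exact (Nat.one_lt_pow two_ne_zero h.hq.one_lt).ne hE'2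
  have hbcomm : ∀ a ∈ W, Commute b a := fun a ha => (mem_centralizer_iff.mp hbW a ha).symm
  -- no element of order `s` centralises both `b` and a nontrivial element of `W`
  have hsW : ∀ e : G, orderOf e = s → Commute e b → ∀ a ∈ W, a ≠ 1 → ¬ Commute e a :=
    fun e he heb a ha ha1 hea => h.tri.false_of_dvd h.ms h.mr h.mq h.nrs.symm h.nqs.symm h.nqr.symm
      heb hea (hbcomm a ha) (dvd_of_eq he.symm) (dvd_of_eq hb.symm) (dvd_orderOf_of_mem hWq ha ha1)
  have hnoGEN : ∀ B : Subgroup G, B ≤ M → Two s B → ∃ e ∈ B, orderOf e = s ∧ ¬ Commute e b := by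
    rintro B hBM ⟨F, hFB, hFe, hF2⟩
    by_contra hcon
    push Not at hcon
    obtain ⟨e, he, heo, a, ha, ha1, hea⟩ := exists_fix hFe hF2
      (fun g hg => hHW (hMH (hBM (hFB hg)))) (coprime_of_isPGroup h.hs h.nqs hWq) hW1
    exact hsW e heo (hcon e (hFB he) heo) a ha ha1 hea
  obtain ⟨c, hcE, hco, v, hv, hv1, hcv⟩ := exists_fix hEe hE2 (fun g hg => hMb (hEM hg))
    (coprime_of_isPGroup h.hs h.nrs hbp) (fun hb' => by
      rw [zpowers_eq_bot] at hb'; rw [hb', orderOf_one] at hb; exact h.hr.ne_one hb.symm)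
  have hcb : Commute c b := (commute_of_mem_zpowers hcv.symm (mem_zpowers_of_eq h.hr hb hv hv1)).symm
  have hcW : ∃ a ∈ W, ¬ Commute c a := by
    obtain ⟨⟨a, ha⟩, ha1⟩ := Subgroup.ne_bot_iff_exists_ne_one.mp hW1
    exact ⟨a, ha, hsW c hco hcb a ha fun he => ha1 (Subtype.ext he)⟩
  have hnfix : ¬ Fix V b := not_fix_of_centralizes h.tri h.mp h.mq h.mr h.ms h.npq h.npr h.nps h.nqr
    h.nqs h.nrs h.hV hWq hW.1 hb hco hcb.symm hbcomm (hHW (hMH (hEM hcE))) hcW
  obtain ⟨d, hdE, hdo, hdb⟩ := hnoGEN E hEM ⟨E, le_rfl, hEe, hE2⟩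
  have hsr : s < r := by
    by_contra hle
    refine hdb (commute_of_normal_prime h.hr hb (hMb (hEM hdE)) ?_)
    rw [hdo]
    refine (h.hs.coprime_iff_not_dvd).mpr fun hd => ?_
    have := h.hr.two_le
    have := Nat.le_of_dvd (by omega) hd
    omega
  have hfixe : ∀ e ∈ M, orderOf e = s → ¬ Commute e b → Fix V e := by
    intro e he heo hne
    by_contra hfix
    refine hne (commute_of_not_fix h.nrs.symm h.nps.symm h.npr.symm h.hV hbp heo (hMb he)
      (fun g _ => h.normV g) (h.normV e) (fun _ x hx y hy => ?_) hfix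
      (h.inf_eq_bot (zpowers_le.mpr (hMH hbM))) b (mem_zpowers b))
    obtain ⟨i, rfl⟩ := hx
    obtain ⟨j, rfl⟩ := hy
    exact ((Commute.refl b).zpow_zpow i j).eq
  set P := coreOf r M
  have hPM : P ≤ M := coreOf_le r M
  have hPp : IsPGroup r P := coreOf_isPGroup r M
  have hMP : M ≤ normalizer (P : Set G) := le_normalizer_coreOf r M
  have hbP : b ∈ P := le_coreOf (zpowers_le.mpr hbM) hMb hbp (mem_zpowers b)
  have hPe : ∀ e ∈ M, orderOf e = s → ¬ Commute e b → ∀ y ∈ P, orderOf y = r → ¬ Commute e y := by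
    intro e he heo hne y hy hyo hey
    by_cases hyW : y ∈ centralizer (W : Set G)
    · have hyb : Commute y b := commute_of_normal_prime h.hr hb (hMb (hPM hy)) (by
        rw [hyo]
        refine (h.hr.coprime_iff_not_dvd).mpr fun hd => ?_
        have := h.hr.two_le
        have := Nat.le_of_dvd (by omega) hd
        omega)
      by_cases hyz : y ∈ zpowers b
      · exact hne (commute_of_mem_zpowers hey.symm
          (mem_zpowers_of_eq h.hr hb hyz (fun h1 => by
            rw [h1, orderOf_one] at hyo; exact h.hr.ne_one hyo.symm))).symm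
      · exact h.no_two_centralizer hW2
          (two_sup hb (hyo ▸ pow_orderOf_eq_one y) hyb.symm hyz).2
          (sup_le (zpowers_le.mpr hbW) (zpowers_le.mpr hyW))
    · rcases pair_centralizes h.tri h.mp h.mq h.mr h.ms h.npq h.npr h.nps h.nqr h.nqs h.nrs h.hV hWq
        hW.1 (h.inf_eq_bot hWH) hyo heo hey.symm (hHW (hMH (hPM hy))) (hHW (hMH he)) with hall | hall
      · exact hyW (mem_centralizer_iff.mpr fun a ha => (hall a ha).symm.eq)
      · refine not_fix_of_centralizes h.tri h.mp h.mq h.ms h.mr h.npq h.nps h.npr h.nqs h.nqr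
          h.nrs.symm h.hV hWq hW.1 heo hyo hey hall (hHW (hMH (hPM hy))) ?_ (hfixe e he heo hne)
        by_contra hcon
        push Not at hcon
        exact hyW (mem_centralizer_iff.mpr fun a ha => (hcon a ha).symm.eq)
  have hPc : P ≤ centralizer ({c} : Set G) := by
    refine le_of_centralizers_le hEe hE2 (fun g hg => hMP (hEM hg))
      (coprime_of_isPGroup h.hs h.nrs hPp) fun e he heo => ?_
    by_cases heb : Commute e b
    · have hec : e ∈ zpowers c := mem_zpowers_of_proper hEe hE2 ⟨d, hdE, hdb⟩ hcE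
        (fun h1 => by rw [h1, orderOf_one] at hco; exact h.hs.ne_one hco.symm) hcb he heb
      have hce : c ∈ zpowers e := mem_zpowers_of_eq h.hs hco hec
        (fun h1 => by rw [h1, orderOf_one] at heo; exact h.hs.ne_one heo.symm)
      intro y hy
      exact centralizer_singleton_iff.mpr (commute_of_mem_zpowers
        (centralizer_singleton_iff.mp (Subgroup.mem_inf.mp hy).2).symm hce).symm
    · intro y hy
      obtain ⟨hyP, hye⟩ := Subgroup.mem_inf.mp hy
      rcases eq_or_ne y 1 with rfl | hy1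
      · exact one_mem _
      · exfalso
        have hd := dvd_orderOf_of_mem hPp hyP hy1
        exact hPe e (hEM he) heo heb _ (P.pow_mem hyP _)
          (orderOf_pow_orderOf_div (orderOf_pos y).ne' hd)
          ((centralizer_singleton_iff.mp hye).symm.pow_right _)
  by_cases hs0 : coreOf s M = ⊥
  · have := mem_coreOf_of_commute (hEM hcE) hco fun u hu y hy => by
      by_cases hd : u ∣ Nat.card M
      · rcases hMp u hu hd with rfl | rfl
        · exact (centralizer_singleton_iff.mp (hPc hy)).symm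
        · rw [hs0, Subgroup.mem_bot] at hy; rw [hy]; exact Commute.one_right c
      · rw [coreOf_eq_bot hu hd, Subgroup.mem_bot] at hy; rw [hy]; exact Commute.one_right c
    rw [hs0, Subgroup.mem_bot] at this
    rw [this, orderOf_one] at hco
    exact h.hs.ne_one hco.symm
  obtain ⟨B, u, hu, hBS, hB1, hMB, hBe, hud⟩ :=
    exists_elementary (coreOf_le s M) (le_normalizer_coreOf s M) hs0
  obtain ⟨n, hn⟩ := IsPGroup.iff_card.mp (coreOf_isPGroup (G := G) s M)
  obtain rfl : u = s := (Nat.prime_dvd_prime_iff_eq hu h.hs).mp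
    (hu.dvd_of_dvd_pow (hn ▸ hud.trans (card_dvd_of_le hBS)))
  have hBb : ∀ β ∈ B, Commute β b := fun β hβ => commute_coreOf h.hs h.hr h.nrs.symm (hBS hβ) hbP
  have hBM : B ≤ M := hBS.trans (coreOf_le _ M)
  have hBc : Nat.card B = u := (two_or_card_eq hBe hB1).resolve_right fun hB2 => by
    obtain ⟨e, he, _, hne⟩ := hnoGEN B hBM hB2
    exact hne (hBb e he)
  obtain ⟨⟨β, hβ⟩, hβ1⟩ := Subgroup.ne_bot_iff_exists_ne_one.mp hB1
  have hβo : orderOf β = u := orderOf_eq_of_mem hBe hβ (fun he => hβ1 (Subtype.ext he))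
  have hzβ : zpowers β = B :=
    eq_of_le_of_card_ge (zpowers_le.mpr hβ) (by rw [hBc, Nat.card_zpowers, hβo])
  have hcβ : Commute c β := commute_of_normal_prime h.hs hβo (hzβ ▸ hMB (hEM hcE)) (by
    rw [hco]
    refine (h.hs.coprime_iff_not_dvd).mpr fun hd => ?_
    have := h.hs.two_le
    have := Nat.le_of_dvd (by omega) hd
    omega)
  have hcB : c ∈ zpowers β := by
    by_contra hne
    obtain ⟨e, he, _, hneb⟩ := hnoGEN (zpowers β ⊔ zpowers c)
      (sup_le (zpowers_le.mpr (hBM hβ)) (zpowers_le.mpr (hEM hcE)))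
      (two_sup hβo (hco ▸ pow_orderOf_eq_one c) hcβ.symm hne).2
    obtain ⟨i, j, rfl⟩ := mem_sup_zpowers hcβ.symm he
    exact hneb (((hBb β hβ).zpow_left i).mul_left (hcb.zpow_left j))
  have hzc : zpowers c = B := by
    rw [← hzβ]
    exact eq_of_le_of_card_ge (zpowers_le.mpr hcB) (by rw [Nat.card_zpowers, Nat.card_zpowers, hco, hβo])
  obtain ⟨F, hFM, hFe, hF2⟩ := hMr
  refine h.no_two_centralizer hW2 ⟨F, le_rfl, hFe, hF2⟩ fun f hf => ?_
  rcases eq_or_ne f 1 with rfl | hf1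
  · exact one_mem _
  have hfo := orderOf_eq_of_mem hFe hf hf1
  have hfc : Commute f c := commute_of_normal_prime h.hs hco (hzc ▸ hMB (hFM hf)) (by
    rw [hfo]
    refine (h.hr.coprime_iff_not_dvd).mpr fun hd => ?_
    have := h.hs.two_le
    have := Nat.le_of_dvd (by omega) hd
    omega)
  rcases pair_centralizes h.tri h.mp h.mq h.mr h.ms h.npq h.npr h.nps h.nqr h.nqs h.nrs h.hV hWq
    hW.1 (h.inf_eq_bot hWH) hfo hco hfc (hHW (hMH (hFM hf))) (hHW (hMH (hEM hcE))) with hall | hall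
  · exact mem_centralizer_iff.mpr fun a ha => (hall a ha).symm.eq
  · obtain ⟨a, ha, hne⟩ := hcW
    exact absurd (hall a ha) hne

/-- A conjugate of an elementary `u ^ 2` lies in a given Hall subgroup. -/
theorem two_hall [Finite G] [Group.IsSolvable G] {π : Set ℕ} {u : ℕ} (hu : u.Prime) (huπ : u ∈ π)
    {M : Subgroup G} (hM : Cfsg.IsPiHall π M) {H : Subgroup G} (hH : Two u H) : Two u M := by
  obtain ⟨E, _, hEe, hE2⟩ := hH
  obtain ⟨g, hg⟩ := CfsgLib.Hall.exists_conj_le_isPiHall hM (U := E) fun w hw hd =>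
    ((Nat.prime_dvd_prime_iff_eq hw hu).mp (hw.dvd_of_dvd_pow (hE2 ▸ hd))).symm ▸ huπ
  refine ⟨E.map (MulAut.conj g).toMonoidHom, hg, ⟨⟨⟨?_⟩⟩, ?_⟩, ?_⟩
  · rintro ⟨_, a, ha, rfl⟩ ⟨_, b, hb, rfl⟩
    exact Subtype.ext ((commute_of_mem hEe ha hb).map (MulAut.conj g).toMonoidHom).eq
  · rintro _ ⟨a, ha, rfl⟩
    rw [← map_pow, hEe.2 a ha, map_one]
  · rw [card_map_of_injective (MulAut.conj g).injective, hE2]

/-- No elementary normalised subgroup of order at least `q ^ 2`. -/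
theorem caseI [Finite G] [Group.IsSolvable G] (h : Ctx σ p q r s V H) {W : Subgroup G}
    (hWH : W ≤ H) (hHW : H ≤ normalizer (W : Set G)) (hW : Cfsg.IsElementaryAbelian q W) :
    ¬ Two q W := by
  intro hW2
  haveI := h.vn
  haveI := Fact.mk h.hp
  haveI := Fact.mk h.hq
  haveI := Fact.mk h.hr
  haveI := Fact.mk h.hs
  obtain ⟨x, hxH, c, hcH, hxo, hco, hxc⟩ := h.pairrs
  have hxco : orderOf (x * c) = r * s := by
    rw [hxc.orderOf_mul_eq_mul_orderOf_of_coprime
      (by rw [hxo, hco]; exact (Nat.coprime_primes h.hr h.hs).mpr h.nrs), hxo, hco]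
  let g : H := ⟨x, hxH⟩ * ⟨c, hcH⟩
  have hgo : orderOf g = r * s := by rw [← Subgroup.orderOf_coe]; exact hxco
  obtain ⟨M0, hM0, hgM⟩ := CfsgLib.Hall.exists_isPiHall_ge (π := ({r, s} : Set ℕ)) (U := zpowers g)
    (fun u hu hd => by
      rw [Nat.card_zpowers, hgo] at hd
      rcases hu.dvd_mul.mp hd with hd | hd
      · exact Or.inl ((Nat.prime_dvd_prime_iff_eq hu h.hr).mp hd)
      · exact Or.inr ((Nat.prime_dvd_prime_iff_eq hu h.hs).mp hd))
  set M := M0.map H.subtype with hMdef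
  have hMH : M ≤ H := map_subtype_le _
  have hgM' : ∀ k : ℕ, (x * c) ^ k ∈ M := fun k => by
    refine ⟨g ^ k, M0.pow_mem (hgM (mem_zpowers g)) k, ?_⟩
    simp [g]
  have hxM : x ∈ M := by
    obtain ⟨m, hm⟩ := exists_pow_eq_self_of_coprime (x := x) (n := s)
      (hxo ▸ (Nat.coprime_primes h.hs h.hr).mpr h.nrs.symm)
    rw [← hm]
    refine M.pow_mem ?_ m
    have := hgM' s
    rwa [hxc.mul_pow, ← hco, pow_orderOf_eq_one, mul_one, hco] at this
  have hcM : c ∈ M := by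
    obtain ⟨m, hm⟩ := exists_pow_eq_self_of_coprime (x := c) (n := r)
      (hco ▸ (Nat.coprime_primes h.hr h.hs).mpr h.nrs)
    rw [← hm]
    refine M.pow_mem ?_ m
    have := hgM' r
    rwa [hxc.mul_pow, ← hxo, pow_orderOf_eq_one, one_mul, hxo] at this
  have hcard : Nat.card M = Nat.card M0 := card_map_of_injective H.subtype_injective
  have hMp : ∀ u : ℕ, u.Prime → u ∣ Nat.card M → u = r ∨ u = s := fun u hu hd =>
    hM0.1 u hu (hcard ▸ hd)
  have htwo : ∀ {u : ℕ}, u.Prime → u ∈ ({r, s} : Set ℕ) → Two u H → Two u M := by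
    rintro u hu huπ ⟨E, hEH, hEe, hE2⟩
    have hE' : Two u (E.subgroupOf H) := ⟨E.subgroupOf H, le_rfl,
      ⟨⟨⟨fun a b => Subtype.ext (Subtype.ext (commute_of_mem hEe a.2 b.2).eq)⟩⟩,
        fun a ha => Subtype.ext (by simpa using hEe.2 _ ha)⟩,
      by rw [Nat.card_congr (subgroupOfEquivOfLe hEH).toEquiv, hE2]⟩
    obtain ⟨F, hF, hFe, hF2⟩ := two_hall hu huπ hM0 hE'
    refine ⟨F.map H.subtype, map_mono hF, ⟨⟨⟨?_⟩⟩, ?_⟩, ?_⟩
    · rintro ⟨_, a, ha, rfl⟩ ⟨_, b, hb, rfl⟩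
      exact Subtype.ext ((commute_of_mem hFe ha hb).map H.subtype).eq
    · rintro _ ⟨a, ha, rfl⟩
      rw [← map_pow, hFe.2 a ha, map_one]
    · rw [card_map_of_injective H.subtype_injective, hF2]
  have hMr := htwo h.hr (Set.mem_insert _ _) h.twor
  have hMs := htwo h.hs (Set.mem_insert_of_mem _ rfl) h.twos
  have hM1 : M ⊓ centralizer (W : Set G) ≠ ⊥ := by
    intro hb
    have hmem : ∀ z ∈ M, (∀ a ∈ W, Commute z a) → z = 1 := fun z hz hall => by
      have : z ∈ M ⊓ centralizer (W : Set G) :=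
        Subgroup.mem_inf.mpr ⟨hz, mem_centralizer_iff.mpr fun a ha => (hall a ha).symm.eq⟩
      rwa [hb, Subgroup.mem_bot] at this
    rcases pair_centralizes h.tri h.mp h.mq h.mr h.ms h.npq h.npr h.nps h.nqr h.nqs h.nrs h.hV
      (isPGroup_of_exp hW.2) hW.1 (h.inf_eq_bot hWH) hxo hco hxc (hHW hxH) (hHW hcH) with hall | hall
    · rw [hmem x hxM hall, orderOf_one] at hxo; exact h.hr.ne_one hxo.symm
    · rw [hmem c hcM hall, orderOf_one] at hco; exact h.hs.ne_one hco.symm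
  obtain ⟨Z, u, hu, hZ, hZ1, hMZ, hZe, hud⟩ := exists_elementary inf_le_left
    (fun g hg => mem_normalizer_inf (le_normalizer hg) (hHW (hMH hg))) hM1
  haveI := Fact.mk hu
  have hZW : Z ≤ centralizer (W : Set G) := hZ.trans inf_le_right
  obtain ⟨⟨b, hb⟩, hb1⟩ := Subgroup.ne_bot_iff_exists_ne_one.mp hZ1
  have hbo : orderOf b = u := orderOf_eq_of_mem hZe hb (fun he => hb1 (Subtype.ext he))
  have hZM : Z ≤ M := hZ.trans inf_le_left
  have hu' := hMp u hu (hud.trans (card_dvd_of_le hZM))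
  have hzb : zpowers b = Z := by
    refine eq_of_le_of_card_ge (zpowers_le.mpr hb) ?_
    rw [Nat.card_zpowers, hbo]
    refine ((two_or_card_eq hZe hZ1).resolve_right fun h2 => ?_).le
    rcases hu' with rfl | rfl
    · exact h.no_two_centralizer hW2 h2 hZW
    · exact h.swapRS.no_two_centralizer hW2 h2 hZW
  rcases hu' with rfl | rfl
  · exact h.caseI_core hWH hHW hW hW2 hMH hMp hMr hMs (hZM hb) hbo (hZW hb) (hzb ▸ hMZ)
  · exact h.swapRS.caseI_core hWH hHW hW hW2 hMH (fun w hw hd => (hMp w hw hd).symm) hMs hMr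
      (hZM hb) hbo (hZW hb) (hzb ▸ hMZ)

theorem not_two [Finite G] [Group.IsSolvable G] (h : Ctx σ p q r s V H) {u : ℕ} (hu : u.Prime)
    {W : Subgroup G} (hWH : W ≤ H) (hHW : H ≤ normalizer (W : Set G))
    (hW : Cfsg.IsElementaryAbelian u W) : ¬ Two u W := by
  intro h2
  obtain ⟨E, hE, hEe, hE2⟩ := h2
  have hd : u ∣ Nat.card H :=
    (hE2 ▸ dvd_pow_self u two_ne_zero).trans (card_dvd_of_le (hE.trans hWH))
  rcases h.primes u hu hd with rfl | rfl | rfl
  · exact h.caseI hWH hHW hW ⟨E, hE, hEe, hE2⟩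
  · exact h.swapQR.caseI hWH hHW hW ⟨E, hE, hEe, hE2⟩
  · exact h.swapQS.caseI hWH hHW hW ⟨E, hE, hEe, hE2⟩

/-- A nontrivial core contains a normalised subgroup of prime order. -/
theorem exists_gen [Finite G] [Group.IsSolvable G] (h : Ctx σ p q r s V H) {u : ℕ} (hu : u.Prime)
    (hY : coreOf u H ≠ ⊥) :
    ∃ a ∈ coreOf u H, orderOf a = u ∧ H ≤ normalizer (zpowers a : Set G) := by
  obtain ⟨W, w, hw, hWY, hW1, hHW, hWe, hwd⟩ :=
    exists_elementary (coreOf_le u H) (le_normalizer_coreOf u H) hY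
  haveI := Fact.mk hu
  obtain ⟨n, hn⟩ := IsPGroup.iff_card.mp (coreOf_isPGroup (G := G) u H)
  obtain rfl : w = u := (Nat.prime_dvd_prime_iff_eq hw hu).mp
    (hw.dvd_of_dvd_pow (hn ▸ hwd.trans (card_dvd_of_le hWY)))
  have hc := (two_or_card_eq hWe hW1).resolve_right
    (h.not_two hw (hWY.trans (coreOf_le _ H)) hHW hWe)
  obtain ⟨⟨a, ha⟩, ha1⟩ := Subgroup.ne_bot_iff_exists_ne_one.mp hW1
  have hao : orderOf a = w := orderOf_eq_of_mem hWe ha (fun he => ha1 (Subtype.ext he))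
  have hza : zpowers a = W :=
    eq_of_le_of_card_ge (zpowers_le.mpr ha) (by rw [hc, Nat.card_zpowers, hao])
  exact ⟨a, hWY ha, hao, hza ▸ hHW⟩

theorem q_ne_two [Finite G] [Group.IsSolvable G] (h : Ctx σ p q r s V H)
    (hY : coreOf q H ≠ ⊥) : q ≠ 2 := by
  intro hq2
  obtain ⟨a, _, hao, hHa⟩ := h.exists_gen h.hq hY
  obtain ⟨x, hx, c, hc, hxo, hco, hxc⟩ := h.pairrs
  have key : ∀ g ∈ H, Commute g a := fun g hg =>
    commute_of_normal_prime h.hq hao (hHa hg) (by rw [hq2]; exact Nat.coprime_one_right _)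
  exact h.tri.false_of_dvd h.mr h.ms h.mq h.nrs h.nqr.symm h.nqs.symm hxc (key x hx) (key c hc)
    (dvd_of_eq hxo.symm) (dvd_of_eq hco.symm) (dvd_of_eq hao.symm)

/-- A noncyclic core next to a normalised subgroup of order `q`. -/
theorem two_cores [Finite G] [Group.IsSolvable G] (h : Ctx σ p q r s V H) (hr2 : r ≠ 2) {b : G}
    (hb : b ∈ coreOf r H) (hbo : orderOf b = r) (hHb : H ≤ normalizer (zpowers b : Set G))
    (hbc : ∀ y ∈ coreOf r H, Commute b y)
    (hcen : ∀ y ∈ coreOf r H, y ^ r = 1 → (∀ g ∈ coreOf r H, Commute y g) → y ∈ zpowers b)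
    {w : G} (hw : w ∈ coreOf r H) (hwr : w ^ r = 1) (hwb : w ∉ zpowers b)
    (hq1 : coreOf q H ≠ ⊥) : False := by
  haveI := h.vn
  haveI := Fact.mk h.hp
  haveI := Fact.mk h.hq
  haveI := Fact.mk h.hr
  haveI := Fact.mk h.hs
  obtain ⟨a, ha, hao, hHa⟩ := h.exists_gen h.hq hq1
  set Y := coreOf r H
  have hYH : Y ≤ H := coreOf_le r H
  have hHY : H ≤ normalizer (Y : Set G) := le_normalizer_coreOf r H
  have hYp : IsPGroup r Y := coreOf_isPGroup r H
  have hap : IsPGroup q (zpowers a) := IsPGroup.of_card (n := 1) (by rw [Nat.card_zpowers, hao, pow_one])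
  have hbp : IsPGroup r (zpowers b) := IsPGroup.of_card (n := 1) (by rw [Nat.card_zpowers, hbo, pow_one])
  have hac : IsMulCommutative (zpowers a) := inferInstance
  have hYa : ∀ y ∈ Y, ∀ z ∈ zpowers a, Commute y z := fun y hy z hz =>
    (commute_coreOf h.hr h.hq h.nqr.symm hy (zpowers_le.mpr ha hz))
  have hL2 : ∀ y ∈ Y, orderOf y = r → ∀ e ∈ H, orderOf e = s → Commute y e → ¬ Fix V y := by
    intro y hy hyo e he heo hye
    refine not_fix_of_centralizes h.tri h.mp h.mq h.mr h.ms h.npq h.npr h.nps h.nqr h.nqs h.nrs h.hV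
      hap hac hyo heo hye (hYa y hy) (hHa he) ⟨a, mem_zpowers a, fun hea => ?_⟩
    exact h.tri.false_of_dvd h.mr h.ms h.mq h.nrs h.nqr.symm h.nqs.symm hye (hYa y hy a (mem_zpowers a))
      hea (dvd_of_eq hyo.symm) (dvd_of_eq heo.symm) (dvd_of_eq hao.symm)
  obtain ⟨E, hEH, hEe, hE2⟩ := h.twos
  obtain ⟨c, hcE, hco, v, hv, hv1, hcv⟩ := exists_fix hEe hE2 (fun g hg => hHb (hEH hg))
    (coprime_of_isPGroup h.hs h.nrs hbp) (fun hb' => by
      rw [zpowers_eq_bot] at hb'; rw [hb', orderOf_one] at hbo; exact h.hr.ne_one hbo.symm)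
  have hcb : Commute b c := commute_of_mem_zpowers hcv.symm (mem_zpowers_of_eq h.hr hbo hv hv1)
  have hnb : ¬ Fix V b := hL2 b hb hbo c (hEH hcE) hco hcb
  -- elements central modulo `⟨b⟩`
  have hbcen : ∀ z ∈ zpowers b, ∀ g ∈ Y, Commute z g := fun z hz g hg =>
    commute_of_mem_zpowers (hbc g hg) hz
  let X : Subgroup G :=
    { carrier := {y | y ∈ Y ∧ y ^ r = 1 ∧ ∀ g ∈ Y, ⁅y, g⁆ ∈ zpowers b}
      one_mem' := ⟨one_mem _, one_pow r, fun g _ => by simp⟩
      mul_mem' := fun {y z} hy hz => by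
        refine ⟨Y.mul_mem hy.1 hz.1, ?_, fun g hg => ?_⟩
        · have hcen' : ⁅(⟨z, hz.1⟩ : Y), ⟨y, hy.1⟩⁆ ∈ center Y := by
            rw [Subgroup.mem_center_iff]
            intro g
            refine Subtype.ext ?_
            show (g : G) * ⁅z, y⁆ = ⁅z, y⁆ * g
            exact (hbcen _ (hz.2.2 y hy.1) g g.2).symm.eq
          have h1 := CfsgLib.PGroup.mul_pow_eq_one_of_central (x := (⟨y, hy.1⟩ : Y)) (p := r)
            (h.hr.odd_of_ne_two hr2) hcen' (Subtype.ext (by simpa using hy.2.1))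
            (Subtype.ext (by simpa using hz.2.1))
          simpa using congrArg Subtype.val h1
        · have h2 : y * ⁅z, g⁆ * y⁻¹ = ⁅z, g⁆ :=
            mul_inv_eq_iff_eq_mul.mpr (hbcen _ (hz.2.2 g hg) y hy.1).symm.eq
          have h3 : ⁅y * z, g⁆ = y * ⁅z, g⁆ * y⁻¹ * ⁅y, g⁆ := by
            simp only [commutatorElement_def]; group
          rw [h3, h2]
          exact mul_mem (hz.2.2 g hg) (hy.2.2 g hg)
      inv_mem' := fun {y} hy => ⟨Y.inv_mem hy.1, by rw [inv_pow, hy.2.1, inv_one], fun g hg => by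
        have h2 : y⁻¹ * ⁅y, g⁆⁻¹ * y⁻¹⁻¹ = ⁅y, g⁆⁻¹ :=
          mul_inv_eq_iff_eq_mul.mpr (hbcen _ (inv_mem (hy.2.2 g hg)) _ (Y.inv_mem hy.1)).symm.eq
        have h3 : ⁅y⁻¹, g⁆ = y⁻¹ * ⁅y, g⁆⁻¹ * y⁻¹⁻¹ := by
          simp only [commutatorElement_def]; group
        rw [h3, h2]
        exact inv_mem (hy.2.2 g hg)⟩ }
  have hHX : H ≤ normalizer (X : Set G) := le_normalizer_of_conj fun g hg y hy =>
    ⟨(mem_normalizer_iff.1 (hHY hg) y).1 hy.1, by rw [conj_pow, hy.2.1, mul_one, mul_inv_cancel],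
      fun k hk => by
      have hk' : g⁻¹ * k * g⁻¹⁻¹ ∈ Y := (mem_normalizer_iff.1 (hHY (H.inv_mem hg)) k).1 hk
      have h1 := (mem_normalizer_iff.1 (hHb hg) _).1 (hy.2.2 _ hk')
      convert h1 using 1
      simp only [commutatorElement_def]
      group⟩
  have hXY : X ≤ Y := fun y hy => hy.1
  have hXb : X ≤ zpowers b := by
    refine le_of_centralizers_le hEe hE2 (fun g hg => hHX (hEH hg))
      (coprime_of_isPGroup h.hs h.nrs (hYp.to_le hXY)) fun e he heo y hy => ?_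
    obtain ⟨hyX, hye⟩ := Subgroup.mem_inf.mp hy
    rcases eq_or_ne y 1 with rfl | hy1
    · exact one_mem _
    have hyo : orderOf y = r := orderOf_eq_prime hyX.2.1 hy1
    have hny := hL2 y hyX.1 hyo e (hEH he) heo (centralizer_singleton_iff.mp hye)
    by_contra hyb
    obtain ⟨g, hg, hgy⟩ : ∃ g ∈ Y, ¬ Commute y g := by
      by_contra hcon
      push Not at hcon
      exact hyb (hcen y hyX.1 hyX.2.1 hcon)
    set β := ⁅g, y⁆ with hβdef
    have hβb : β ∈ zpowers b := by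
      rw [hβdef, ← commutatorElement_inv]
      exact inv_mem (hyX.2.2 g hg)
    have hβ1 : β ≠ 1 := fun h1 =>
      hgy ((commutatorElement_eq_one_iff_mul_comm.mp h1).symm : y * g = g * y)
    have hbβ : b ∈ zpowers β := mem_zpowers_of_eq h.hr hbo hβb hβ1
    have hgy' : ∀ k : ℕ, g ^ k * y * (g ^ k)⁻¹ = y * β ^ k := by
      intro k
      induction k with
      | zero => simp
      | succ k ih =>
        have h1 : g * y * g⁻¹ = y * β := by
          rw [← (hbcen β hβb y hyX.1).eq, hβdef, commutatorElement_def]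
          group
        have h2 : g * β ^ k * g⁻¹ = β ^ k :=
          mul_inv_eq_iff_eq_mul.mpr ((hbcen β hβb g hg).pow_left k).symm.eq
        calc g ^ (k + 1) * y * (g ^ (k + 1))⁻¹ = g * (g ^ k * y * (g ^ k)⁻¹) * g⁻¹ := by
              rw [pow_succ']; group
          _ = (g * y * g⁻¹) * (g * β ^ k * g⁻¹) := by rw [ih]; group
          _ = y * β ^ (k + 1) := by rw [h1, h2, pow_succ', mul_assoc]
    obtain ⟨F, hFB, hFe, hF2⟩ := (two_sup hbo hyX.2.1 (hbc y hyX.1) hyb).2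
    obtain ⟨z, hz, hzo, t, ht, ht1, hzt⟩ := exists_fix hFe hF2 (fun g _ => h.normV g)
      (coprime_of_isPGroup h.hr h.npr (isPGroup_of_exp h.hV.2)) h.hV1
    obtain ⟨i, j, rfl⟩ := mem_sup_zpowers (hbc y hyX.1) (hFB hz)
    rcases eq_or_ne (y ^ j) 1 with hj | hj
    · rw [hj, mul_one] at hzt hzo
      exact hnb ⟨t, ht, ht1, commute_of_mem_zpowers hzt (mem_zpowers_of_eq h.hr hbo
        (zpow_mem (mem_zpowers b) i) (fun h1 => by rw [h1, orderOf_one] at hzo; exact h.hr.ne_one hzo.symm))⟩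
    · obtain ⟨m, hm⟩ := mem_zpowers_of_eq h.hr hyo (zpow_mem (mem_zpowers y) j) hj
      have hm' : (b ^ i * y ^ j) ^ m = b ^ (i * m) * y := by
        rw [((hbc y hyX.1).zpow_zpow i j).mul_zpow, ← zpow_mul]
        exact congrArg _ hm
      obtain ⟨k, hk⟩ := mem_powers_iff_mem_zpowers.mpr
        (zpowers_le.mpr hbβ (zpow_mem (mem_zpowers b) (i * m)))
      have hconj : (b ^ i * y ^ j) ^ m = g ^ k * y * (g ^ k)⁻¹ := by
        rw [hgy', hm', show β ^ k = b ^ (i * m) from hk]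
        exact (hbcen _ (zpow_mem (mem_zpowers b) _) y hyX.1).eq
      have h4 : Commute (g ^ k * y * (g ^ k)⁻¹) t := hconj ▸ hzt.zpow_left m
      refine hny ⟨(g ^ k)⁻¹ * t * (g ^ k)⁻¹⁻¹, h.vn.conj_mem t ht _, fun h5 => ht1 ?_, ?_⟩
      · exact conj_eq_one_iff.mp h5
      · show y * ((g ^ k)⁻¹ * t * (g ^ k)⁻¹⁻¹) = (g ^ k)⁻¹ * t * (g ^ k)⁻¹⁻¹ * y
        calc y * ((g ^ k)⁻¹ * t * (g ^ k)⁻¹⁻¹)
            = (g ^ k)⁻¹ * ((g ^ k * y * (g ^ k)⁻¹) * t) * g ^ k := by group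
          _ = (g ^ k)⁻¹ * (t * (g ^ k * y * (g ^ k)⁻¹)) * g ^ k := by rw [h4.eq]
          _ = _ := by group
  -- but some element outside `⟨b⟩` is central modulo it
  haveI : Group.IsNilpotent Y := hYp.isNilpotent
  haveI : ((zpowers b).subgroupOf Y).Normal :=
    normal_subgroupOf_of_le_normalizer (hYH.trans hHb)
  obtain ⟨F, hFn, hFe, hFgt⟩ := CfsgLib.OddOrder41.exists_normal_elementary_gt hr2 hYp
    ((zpowers b).subgroupOf Y)
    ⟨⟨⟨fun u v => Subtype.ext (Subtype.ext (hbcen u u.2 (v : Y) (v : Y).2).eq)⟩⟩,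
      fun u hu => Subtype.ext (by
        have : ((u : G)) ^ r = 1 := by
          obtain ⟨i, hi⟩ := Subgroup.mem_subgroupOf.mp hu
          rw [← show b ^ i = (u : G) from hi, ← zpow_natCast, ← zpow_mul, mul_comm, zpow_mul,
            zpow_natCast, ← hbo, pow_orderOf_eq_one, one_zpow]
        simpa using this)⟩
    ⟨w, hw⟩ (mem_centralizer_iff.mpr fun u hu =>
      Subtype.ext (hbcen u (Subgroup.mem_subgroupOf.mp hu) w hw).eq)
    (Subtype.ext (by simpa using hwr)) (fun hmem => hwb (Subgroup.mem_subgroupOf.mp hmem))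
  obtain ⟨y, hyF, hyb, hy⟩ := CfsgLib.OddOrder41.exists_central_step F ((zpowers b).subgroupOf Y)
    hFgt.not_ge
  refine hyb (Subgroup.mem_subgroupOf.mpr (hXb ⟨y.2, ?_, fun g hg => ?_⟩))
  · simpa using congrArg Subtype.val (hFe.2 y hyF)
  · exact Subgroup.mem_subgroupOf.mp (hy ⟨g, hg⟩)

/-- With a single nontrivial core. -/
theorem one_core [Finite G] [Group.IsSolvable G] (h : Ctx σ p q r s V H) (hr2 : r ≠ 2)
    (hs0 : coreOf s H = ⊥) (hq0 : coreOf q H = ⊥) {b : G} (hbH : b ∈ H) (hbo : orderOf b = r)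
    (hHb : H ≤ normalizer (zpowers b : Set G)) {x c : G} (hxH : x ∈ H) (hcH : c ∈ H)
    (hxo : orderOf x = q) (hco : orderOf c = s) (hxc : Commute x c)
    (hxb : ∀ z ∈ zpowers b, Commute x z) : False := by
  haveI := h.vn
  haveI := Fact.mk h.hp
  haveI := Fact.mk h.hq
  haveI := Fact.mk h.hr
  haveI := Fact.mk h.hs
  have hbp : IsPGroup r (zpowers b) := IsPGroup.of_card (n := 1) (by rw [Nat.card_zpowers, hbo, pow_one])
  have hcb : ¬ Commute c b := fun hcb => h.tri.false_of_dvd h.mq h.ms h.mr h.nqs h.nqr h.nrs.symm hxc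
    (hxb b (mem_zpowers b)) hcb (dvd_of_eq hxo.symm) (dvd_of_eq hco.symm) (dvd_of_eq hbo.symm)
  have hnx := not_fix_of_centralizes h.tri h.mp h.mr h.mq h.ms h.npr h.npq h.nps h.nqr.symm h.nrs
    h.nqs h.hV hbp inferInstance hxo hco hxc hxb (hHb hcH) ⟨b, mem_zpowers b, hcb⟩
  have hxY := commute_of_not_fix h.nqr h.npq.symm h.npr.symm h.hV (coreOf_isPGroup (G := G) r H) hxo
    (le_normalizer_coreOf r H hxH) (fun g _ => h.normV g) (h.normV x) (fun h2 => absurd h2 hr2) hnx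
    (h.inf_eq_bot (coreOf_le r H))
  have := mem_coreOf_of_commute hxH hxo fun u hu y hy => by
    by_cases hd : u ∣ Nat.card H
    · rcases h.primes u hu hd with rfl | rfl | rfl
      · rw [hq0, Subgroup.mem_bot] at hy; rw [hy]; exact Commute.one_right x
      · exact hxY y hy
      · rw [hs0, Subgroup.mem_bot] at hy; rw [hy]; exact Commute.one_right x
    · rw [coreOf_eq_bot hu hd, Subgroup.mem_bot] at hy; rw [hy]; exact Commute.one_right x
  rw [hq0, Subgroup.mem_bot] at this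
  rw [this, orderOf_one] at hxo
  exact h.hq.ne_one hxo.symm

theorem isCyclic_coreOf [Finite G] [Group.IsSolvable G] (h : Ctx σ p q r s V H) :
    IsCyclic (coreOf r H) := by
  haveI := h.vn
  haveI := Fact.mk h.hp
  haveI := Fact.mk h.hq
  haveI := Fact.mk h.hr
  haveI := Fact.mk h.hs
  by_contra hnc
  have hY1 : coreOf r H ≠ ⊥ := fun hb => hnc (by rw [hb]; exact isCyclic_of_subsingleton)
  have hr2 : r ≠ 2 := h.swapQR.q_ne_two hY1
  obtain ⟨b, hb, hbo, hbc, w, hw, hwr, hwb⟩ :=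
    exists_of_not_cyclic hr2 (coreOf_isPGroup (G := G) r H) hnc
  let Z : Subgroup G :=
    { carrier := {y | y ∈ coreOf r H ∧ y ^ r = 1 ∧ ∀ g ∈ coreOf r H, Commute y g}
      one_mem' := ⟨one_mem _, one_pow r, fun g _ => Commute.one_left g⟩
      mul_mem' := fun {y z} hy hz => ⟨mul_mem hy.1 hz.1, by
        rw [(hy.2.2 z hz.1).mul_pow, hy.2.1, hz.2.1, one_mul],
        fun g hg => (hy.2.2 g hg).mul_left (hz.2.2 g hg)⟩
      inv_mem' := fun {y} hy => ⟨inv_mem hy.1, by rw [inv_pow, hy.2.1, inv_one],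
        fun g hg => (hy.2.2 g hg).inv_left⟩ }
  have hZb : b ∈ Z := ⟨hb, hbo ▸ pow_orderOf_eq_one b, hbc⟩
  have hHZ : H ≤ normalizer (Z : Set G) := le_normalizer_of_conj fun g hg y hy => by
    refine ⟨(mem_normalizer_iff.1 (le_normalizer_coreOf r H hg) y).1 hy.1,
      by rw [conj_pow, hy.2.1, mul_one, mul_inv_cancel], fun k hk => ?_⟩
    have hk' : g⁻¹ * k * g⁻¹⁻¹ ∈ coreOf r H :=
      (mem_normalizer_iff.1 (le_normalizer_coreOf r H (H.inv_mem hg)) k).1 hk
    show g * y * g⁻¹ * k = k * (g * y * g⁻¹)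
    calc g * y * g⁻¹ * k = g * (y * (g⁻¹ * k * g⁻¹⁻¹)) * g⁻¹ := by group
      _ = g * ((g⁻¹ * k * g⁻¹⁻¹) * y) * g⁻¹ := by rw [(hy.2.2 _ hk').eq]
      _ = _ := by group
  have hZe : Cfsg.IsElementaryAbelian r Z :=
    ⟨⟨⟨fun u v => Subtype.ext (u.2.2.2 v v.2.1).eq⟩⟩, fun u hu => hu.2.1⟩
  have hZc := (two_or_card_eq hZe fun hb' => by
    rw [hb', Subgroup.mem_bot] at hZb; rw [hZb, orderOf_one] at hbo; exact h.hr.ne_one hbo.symm
    ).resolve_right (h.not_two h.hr (fun y hy => coreOf_le r H hy.1) hHZ hZe)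
  have hzb : zpowers b = Z :=
    eq_of_le_of_card_ge (zpowers_le.mpr hZb) (by rw [hZc, Nat.card_zpowers, hbo])
  have hHb : H ≤ normalizer (zpowers b : Set G) := hzb ▸ hHZ
  have hcen : ∀ y ∈ coreOf r H, y ^ r = 1 → (∀ g ∈ coreOf r H, Commute y g) → y ∈ zpowers b :=
    fun y h1 h2 h3 => hzb ▸ (⟨h1, h2, h3⟩ : y ∈ Z)
  by_cases hq0 : coreOf q H = ⊥
  swap
  · exact h.two_cores hr2 hb hbo hHb hbc hcen hw hwr hwb hq0
  by_cases hs0 : coreOf s H = ⊥
  swap
  · exact h.swapQS.two_cores hr2 hb hbo hHb hbc hcen hw hwr hwb hs0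
  obtain ⟨x, hx, c, hc, hxo, hco, hxc⟩ := h.pairqs
  rcases pair_centralizes h.tri h.mp h.mr h.mq h.ms h.npr h.npq h.nps h.nqr.symm h.nrs h.nqs h.hV
    (A := zpowers b) (IsPGroup.of_card (n := 1) (by rw [Nat.card_zpowers, hbo, pow_one])) inferInstance
    (h.inf_eq_bot (zpowers_le.mpr (coreOf_le r H hb))) hxo hco hxc (hHb hx) (hHb hc) with hall | hall
  · exact h.one_core hr2 hs0 hq0 (coreOf_le r H hb) hbo hHb hx hc hxo hco hxc hall
  · exact h.swapQS.one_core hr2 hq0 hs0 (coreOf_le r H hb) hbo hHb hc hx hco hxo hxc.symm hall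

theorem absurd_ctx [Finite G] [Group.IsSolvable G] (h : Ctx σ p q r s V H) : False := by
  have hcyc : ∀ u : ℕ, u.Prime → IsCyclic (coreOf u H) := fun u hu => by
    by_cases hd : u ∣ Nat.card H
    · rcases h.primes u hu hd with rfl | rfl | rfl
      · exact h.swapQR.isCyclic_coreOf
      · exact h.isCyclic_coreOf
      · exact h.swapRS.isCyclic_coreOf
    · rw [coreOf_eq_bot hu hd]
      exact isCyclic_of_subsingleton
  obtain ⟨t, ht, hmax, htwo⟩ : ∃ t : ℕ, t.Prime ∧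
      (∀ u : ℕ, u.Prime → u ∣ Nat.card H → u ≤ t) ∧ Two t H := by
    by_cases hq : r ≤ q ∧ s ≤ q
    · exact ⟨q, h.hq, fun u hu hd => by rcases h.primes u hu hd with rfl | rfl | rfl <;> omega, h.twoq⟩
    by_cases hr : q ≤ r ∧ s ≤ r
    · exact ⟨r, h.hr, fun u hu hd => by rcases h.primes u hu hd with rfl | rfl | rfl <;> omega, h.twor⟩
    · exact ⟨s, h.hs, fun u hu hd => by rcases h.primes u hu hd with rfl | rfl | rfl <;> omega, h.twos⟩
  haveI := Fact.mk ht
  exact no_two_largest hcyc hmax htwo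

end Ctx

end CfsgLib.FourPrimes
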