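import Cfsg.Agent.Lib.Struct78.FourPrimes.TwoModules
import Cfsg.Agent.Lib.Struct78.FourPrimes.Faithful
import Cfsg.Agent.Lib.HallHigman.Setup

/-!
A finite group in which four primes are pairwise, but no three of them jointly, joined by element
orders is not soluble.
-/

set_option autoImplicit false
set_option linter.style.haveILetI false

namespace CfsgLib.FourPrimes

open Subgroup

variable {G : Type*} [Group G]

/-- No element has as order a product of three of the primes. -/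
def NoTriple (τ : Finset ℕ) (G : Type*) [Group G] : Prop :=
  ∀ p ∈ τ, ∀ q ∈ τ, ∀ r ∈ τ, p ≠ q → q ≠ r → p ≠ r → ∀ g : G, orderOf g ≠ p * q * r

theorem tri_of_noTriple {τ : Finset ℕ} (hprime : ∀ p ∈ τ, p.Prime) (h3 : NoTriple τ G) :
    Tri (τ : Set ℕ) G := by
  intro a b c hab hac hbc ha hb hc hne1 hne2 hne3
  rw [Finset.mem_coe] at ha hb hc
  have hpa := hprime _ ha
  have hpb := hprime _ hb
  have hpc := hprime _ hc
  have h1 : orderOf (a * b) = orderOf a * orderOf b :=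
    hab.orderOf_mul_eq_mul_orderOf_of_coprime ((Nat.coprime_primes hpa hpb).mpr hne1)
  refine h3 _ ha _ hb _ hc hne1 hne3 hne2 (a * b * c) ?_
  rw [(hac.mul_left hbc).orderOf_mul_eq_mul_orderOf_of_coprime, h1]
  rw [h1]
  exact Nat.Coprime.mul_left ((Nat.coprime_primes hpa hpc).mpr hne2)
    ((Nat.coprime_primes hpb hpc).mpr hne3)

theorem dvd_card_of_mem [Finite G] {X : Subgroup G} {g : G} {n : ℕ} (hg : g ∈ X)
    (h : orderOf g = n) : n ∣ Nat.card X := by
  rw [← h, ← Subgroup.orderOf_mk g hg]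
  exact _root_.orderOf_dvd_natCard _

theorem exists_commuting [Finite G] {u v : ℕ} (hu : u.Prime) (hv : v.Prime)
    (h : ∃ g : G, orderOf g = u * v) :
    ∃ x c : G, orderOf x = u ∧ orderOf c = v ∧ Commute x c := by
  obtain ⟨g, hg⟩ := h
  refine ⟨g ^ v, g ^ u, ?_, ?_, (Commute.refl g).pow_pow v u⟩
  · rw [orderOf_pow_of_dvd hv.ne_zero (hg ▸ dvd_mul_left v u), hg, Nat.mul_div_cancel _ hv.pos]
  · rw [orderOf_pow_of_dvd hu.ne_zero (hg ▸ dvd_mul_right u v), hg, Nat.mul_div_cancel_left _ hu.pos]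

/-- Every prime has an elementary subgroup of order `u ^ 2`. -/
theorem two_top [Finite G] [Group.IsSolvable G] {τ : Finset ℕ} (hcard : τ.card = 4)
    (hprime : ∀ p ∈ τ, p.Prime) (h2 : ∀ p ∈ τ, ∀ q ∈ τ, p ≠ q → ∃ g : G, orderOf g = p * q)
    (h3 : NoTriple τ G) {u : ℕ} (hu : u ∈ τ) : Two u (⊤ : Subgroup G) := by
  haveI := Fact.mk (hprime u hu)
  by_contra hno
  have hc3 : (τ.erase u).card = 3 := by rw [Finset.card_erase_of_mem hu, hcard]
  obtain ⟨a, b, c, hab, hac, hbc, heq⟩ := Finset.card_eq_three.mp hc3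
  have hmem : ∀ v, v = a ∨ v = b ∨ v = c → v ∈ τ ∧ v ≠ u := fun v hv => by
    have : v ∈ τ.erase u := by rw [heq]; simpa using hv
    exact ⟨(Finset.mem_erase.mp this).2, (Finset.mem_erase.mp this).1⟩
  obtain ⟨haτ, hau⟩ := hmem a (Or.inl rfl)
  obtain ⟨x₀, _, hx₀, _, _⟩ := exists_commuting (hprime u hu) (hprime a haτ) (h2 u hu a haτ hau.symm)
  obtain ⟨P, hP⟩ := (IsPGroup.of_card (n := 1) (p := u) (G := zpowers x₀)
    (by rw [Nat.card_zpowers, hx₀, pow_one])).exists_le_sylow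
  have hud : u ∣ Nat.card (P : Subgroup G) :=
    dvd_card_of_mem (hP (mem_zpowers x₀)) hx₀
  haveI : Nontrivial (P : Subgroup G) := by
    rw [← Finite.one_lt_card_iff_nontrivial]
    exact (hprime u hu).one_lt.trans_le (Nat.le_of_dvd Nat.card_pos hud)
  haveI := P.2.center_nontrivial
  obtain ⟨n, hn⟩ := IsPGroup.iff_card.mp (P.2.to_subgroup (center (P : Subgroup G)))
  have hdvd : u ∣ Nat.card (center (P : Subgroup G)) := by
    rcases n with _ | n
    · exact absurd hn (by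
        simpa using (Finite.one_lt_card : 1 < Nat.card (center (P : Subgroup G))).ne')
    · exact hn ▸ dvd_pow_self u (Nat.succ_ne_zero n)
  obtain ⟨z', hz'⟩ := exists_prime_orderOf_dvd_card' (G := center (P : Subgroup G)) u hdvd
  set z : G := ((z' : (P : Subgroup G)) : G) with hzdef
  have hzo : orderOf z = u := by rw [hzdef, Subgroup.orderOf_coe, Subgroup.orderOf_coe, hz']
  have hzc : ∀ y ∈ (P : Subgroup G), Commute z y := fun y hy =>
    (congrArg Subtype.val (Subgroup.mem_center_iff.mp z'.2 ⟨y, hy⟩)).symm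
  -- for each other prime there is an element of that order commuting with `z`
  have hcz : ∀ v, v = a ∨ v = b ∨ v = c → v ∣ Nat.card (centralizer ({z} : Set G)) := by
    intro v hv
    obtain ⟨hvτ, hvu⟩ := hmem v hv
    obtain ⟨x, d, hx, hd, hxd⟩ := exists_commuting (hprime u hu) (hprime v hvτ) (h2 u hu v hvτ hvu.symm)
    obtain ⟨Q, hQ⟩ := (IsPGroup.of_card (n := 1) (p := u) (G := zpowers x)
      (by rw [Nat.card_zpowers, hx, pow_one])).exists_le_sylow
    obtain ⟨g, hg⟩ := MulAction.exists_smul_eq G Q P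
    let φ : G ≃* G := MulAut.conj g
    have hxP : φ x ∈ (P : Subgroup G) := by
      rw [← hg, Sylow.coe_subgroup_smul]
      exact smul_mem_pointwise_smul x (MulAut.conj g) (Q : Subgroup G) (hQ (mem_zpowers x))
    have hφx : orderOf (φ x) = u := by rw [MulEquiv.orderOf_eq, hx]
    have hxz : φ x ∈ zpowers z := by
      by_contra hne
      exact hno ((two_sup hzo (hφx ▸ pow_orderOf_eq_one _) (hzc _ hxP) hne).2.mono le_top)
    have hzd : Commute z (φ d) := commute_of_mem_zpowers (hxd.map φ.toMonoidHom)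
      (mem_zpowers_of_eq (hprime u hu) hzo hxz fun h1 => by
        rw [show φ x = 1 from h1, orderOf_one] at hφx; exact (hprime u hu).ne_one hφx.symm)
    have hφd : orderOf (φ d) = v := by rw [MulEquiv.orderOf_eq, hd]
    exact dvd_card_of_mem (centralizer_singleton_iff.mpr hzd.symm) hφd
  obtain ⟨hbτ, hbu⟩ := hmem b (Or.inr (Or.inl rfl))
  obtain ⟨hcτ, hcu⟩ := hmem c (Or.inr (Or.inr rfl))
  obtain ⟨i, hi, j, hj, hij, g, hg⟩ := CfsgLib.Spectrum.exists_orderOf_mul_of_solvable_three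
    (G := centralizer ({z} : Set G)) inferInstance (hprime a haτ) (hprime b hbτ) (hprime c hcτ)
    hab hac hbc (hcz a (Or.inl rfl)) (hcz b (Or.inr (Or.inl rfl))) (hcz c (Or.inr (Or.inr rfl)))
  simp only [Finset.mem_insert, Finset.mem_singleton] at hi hj
  obtain ⟨hiτ, hiu⟩ := hmem i hi
  obtain ⟨hjτ, hju⟩ := hmem j hj
  refine h3 u hu i hiτ j hjτ hiu.symm hij hju.symm (z * (g : G)) ?_
  have hzg : Commute z (g : G) := (centralizer_singleton_iff.mp g.2).symm
  rw [hzg.orderOf_mul_eq_mul_orderOf_of_coprime, hzo, Subgroup.orderOf_coe, hg, mul_assoc]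
  rw [hzo, Subgroup.orderOf_coe, hg]
  exact Nat.Coprime.mul_right ((Nat.coprime_primes (hprime u hu) (hprime i hiτ)).mpr hiu.symm)
    ((Nat.coprime_primes (hprime u hu) (hprime j hjτ)).mpr hju.symm)

/-- Conjugates of a commuting pair in a Hall subgroup. -/
theorem pair_hall [Finite G] [Group.IsSolvable G] {π : Set ℕ} {u v : ℕ} (hu : u.Prime)
    (hv : v.Prime) (huv : u ≠ v) (huπ : u ∈ π) (hvπ : v ∈ π) {M : Subgroup G}
    (hM : Cfsg.IsPiHall π M) {x c : G} (hx : orderOf x = u) (hc : orderOf c = v)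
    (hxc : Commute x c) :
    ∃ x' ∈ M, ∃ c' ∈ M, orderOf x' = u ∧ orderOf c' = v ∧ Commute x' c' := by
  have hxco : orderOf (x * c) = u * v := by
    rw [hxc.orderOf_mul_eq_mul_orderOf_of_coprime
      (by rw [hx, hc]; exact (Nat.coprime_primes hu hv).mpr huv), hx, hc]
  obtain ⟨g, hg⟩ := CfsgLib.Hall.exists_conj_le_isPiHall hM (U := zpowers (x * c)) fun w hw hd => by
    rw [Nat.card_zpowers, hxco] at hd
    rcases hw.dvd_mul.mp hd with hd | hd
    · rwa [(Nat.prime_dvd_prime_iff_eq hw hu).mp hd]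
    · rwa [(Nat.prime_dvd_prime_iff_eq hw hv).mp hd]
  obtain ⟨x', c', hx', hc', hxc'⟩ :=
    exists_commuting hu hv ⟨MulAut.conj g (x * c), by rw [MulEquiv.orderOf_eq, hxco]⟩
  have hmem : MulAut.conj g (x * c) ∈ M :=
    hg (smul_mem_pointwise_smul (x * c) (MulAut.conj g) (zpowers (x * c)) (mem_zpowers _))
  refine ⟨_, M.pow_mem hmem v, _, M.pow_mem hmem u, ?_, ?_, (Commute.refl _).pow_pow v u⟩
  · rw [orderOf_pow_of_dvd hv.ne_zero (by rw [MulEquiv.orderOf_eq, hxco]; exact dvd_mul_left v u),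
      MulEquiv.orderOf_eq, hxco, Nat.mul_div_cancel _ hv.pos]
  · rw [orderOf_pow_of_dvd hu.ne_zero (by rw [MulEquiv.orderOf_eq, hxco]; exact dvd_mul_right u v),
      MulEquiv.orderOf_eq, hxco, Nat.mul_div_cancel_left _ hu.pos]

theorem eq_prime_of_dvd_card [Finite G] {p u : ℕ} (hp : p.Prime) {X : Subgroup G}
    (hX : IsPGroup p X) (hu : u.Prime) (hd : u ∣ Nat.card X) : u = p := by
  haveI := Fact.mk hp
  obtain ⟨n, hn⟩ := IsPGroup.iff_card.mp hX
  exact (Nat.prime_dvd_prime_iff_eq hu hp).mp (hu.dvd_of_dvd_pow (hn ▸ hd))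

/-- An elementary normal subgroup in a nontrivial core. -/
theorem exists_elementary_core [Finite G] [Group.IsSolvable G] {p : ℕ} (hp : p.Prime)
    (h : Cfsg.pCore p G ≠ ⊥) :
    ∃ V : Subgroup G, V.Normal ∧ V ≠ ⊥ ∧ Cfsg.IsElementaryAbelian p V := by
  haveI : (Cfsg.pCore p G).Normal := CfsgLib.Fitting.pCore_normal p
  obtain ⟨V, s, hs, hVn, hV1, hVle, hVc, hVe⟩ :=
    CfsgLib.Spectrum.exists_normal_elementary_le (Cfsg.pCore p G) h inferInstance
  obtain ⟨⟨v, hv⟩, hv1⟩ := Subgroup.ne_bot_iff_exists_ne_one.mp hV1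
  haveI := Fact.mk hs
  have hvo : orderOf v = s :=
    orderOf_eq_of_mem ⟨hVc, hVe⟩ hv (fun he => hv1 (Subtype.ext he))
  obtain rfl : s = p := eq_prime_of_dvd_card hp (CfsgLib.Fitting.pCore_isPGroup p) hs
    ((dvd_card_of_mem hv hvo).trans (card_dvd_of_le hVle))
  exact ⟨V, hVn, hV1, hVc, hVe⟩

theorem false_single_core.{u} {G : Type u} [Group G] [Finite G] [Group.IsSolvable G] {τ : Finset ℕ}
    (hcard : τ.card = 4) (hprime : ∀ p ∈ τ, p.Prime)
    (h2 : ∀ p ∈ τ, ∀ q ∈ τ, p ≠ q → ∃ g : G, orderOf g = p * q) (h3 : NoTriple τ G)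
    (hG : ∀ u : ℕ, u.Prime → u ∣ Nat.card G → u ∈ τ) {p : ℕ} (hp : p ∈ τ)
    (honly : ∀ u ∈ τ, u ≠ p → Cfsg.pCore u G = ⊥) : False := by
  haveI := Fact.mk (hprime p hp)
  have h0 : Cfsg.pPrimeCore p G = ⊥ := by
    by_contra hne
    obtain ⟨V, s, hs, hVn, hV1, hVle, hVc, hVe⟩ :=
      CfsgLib.Spectrum.exists_normal_elementary_le (Cfsg.pPrimeCore p G) hne inferInstance
    obtain ⟨⟨v, hv⟩, hv1⟩ := Subgroup.ne_bot_iff_exists_ne_one.mp hV1
    haveI := Fact.mk hs
    have hvo : orderOf v = s := orderOf_eq_of_mem ⟨hVc, hVe⟩ hv (fun he => hv1 (Subtype.ext he))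
    have hsd : s ∣ Nat.card (Cfsg.pPrimeCore p G) :=
      (dvd_card_of_mem hv hvo).trans (card_dvd_of_le hVle)
    have hsp : s ≠ p := fun he => hs.ne_one
      (Nat.dvd_one.mp ((CfsgLib.PCore.pPrimeCore_coprime (p := p) (G := G)).gcd_eq_one ▸
        Nat.dvd_gcd hsd (dvd_of_eq he)))
    refine hV1 (eq_bot_iff.mpr ?_)
    rw [← honly s (hG s hs (hsd.trans (card_subgroup_dvd_card _))) hsp]
    exact CfsgLib.Fitting.le_pCore hVn (isPGroup_of_exp hVe)
  obtain ⟨hc, he, hcen⟩ := CfsgLib.HallHigman.frattini_quotient_props (p := p)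
    CfsgLib.PCore.isPSolvable_of_isSolvable h0
  set N := CfsgLib.HallHigman.frattiniCore p G
  set f := QuotientGroup.mk' N with hf
  have hfs : Function.Surjective f := QuotientGroup.mk'_surjective N
  haveI : Group.IsSolvable (G ⧸ N) := Group.isSolvable_of_surjective hfs
  set V := (Cfsg.pCore p G).map f
  have hVn : V.Normal := (CfsgLib.Fitting.pCore_normal p).map f hfs
  have hV : Cfsg.IsElementaryAbelian p V := ⟨⟨⟨fun a b => Subtype.ext (hc a a.2 b b.2)⟩⟩, he⟩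
  have hNp : IsPGroup p N :=
    (CfsgLib.Fitting.pCore_isPGroup p).to_le (CfsgLib.HallHigman.frattiniCore_le p G)
  have hker : ∀ x : G, (orderOf x).Coprime p → f x = 1 → x = 1 := fun x hx hfx => by
    have hxN : x ∈ N := (QuotientGroup.eq_one_iff x).mp hfx
    by_contra hx1
    have := dvd_orderOf_of_mem hNp hxN hx1
    exact (hprime p hp).ne_one (Nat.dvd_one.mp (hx.gcd_eq_one ▸ Nat.dvd_gcd this dvd_rfl))
  have hord : ∀ x : G, ∀ u ∈ τ, u ≠ p → orderOf x = u → orderOf (f x) = u := fun x u hu hup hx => by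
    haveI := Fact.mk (hprime u hu)
    refine orderOf_eq_prime (by rw [← map_pow, ← hx, pow_orderOf_eq_one, map_one]) fun h1 => ?_
    rw [hker x (hx ▸ (Nat.coprime_primes (hprime u hu) (hprime p hp)).mpr hup) h1, orderOf_one] at hx
    exact (hprime u hu).ne_one hx.symm
  have h3' : NoTriple τ (G ⧸ N) := by
    intro a ha b hb c hc hab hbc hac y hy
    obtain ⟨x, rfl⟩ := hfs y
    have hd : a * b * c ∣ orderOf x := hy ▸ orderOf_map_dvd f x
    exact h3 a ha b hb c hc hab hbc hac _ (orderOf_pow_orderOf_div (orderOf_pos x).ne' hd)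
  have hc3 : (τ.erase p).card = 3 := by rw [Finset.card_erase_of_mem hp, hcard]
  obtain ⟨q, r, s, hqr, hqs, hrs, heq⟩ := Finset.card_eq_three.mp hc3
  have hmem : ∀ v, v = q ∨ v = r ∨ v = s → v ∈ τ ∧ v ≠ p := fun v hv => by
    have : v ∈ τ.erase p := by rw [heq]; simpa using hv
    exact ⟨(Finset.mem_erase.mp this).2, (Finset.mem_erase.mp this).1⟩
  obtain ⟨hq, hqp⟩ := hmem q (Or.inl rfl)
  obtain ⟨hr, hrp⟩ := hmem r (Or.inr (Or.inl rfl))
  obtain ⟨hs, hsp⟩ := hmem s (Or.inr (Or.inr rfl))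
  set π : Set ℕ := {v | v = q ∨ v = r ∨ v = s}
  obtain ⟨H, hH⟩ := CfsgLib.Hall.exists_isPiHall (G := G ⧸ N) π
  have htwo : ∀ v, v = q ∨ v = r ∨ v = s → Two v H := by
    intro v hv
    obtain ⟨hvτ, hvp⟩ := hmem v hv
    haveI := Fact.mk (hprime v hvτ)
    obtain ⟨E, _, hEe, hE2⟩ := two_top hcard hprime h2 h3 hvτ
    refine Ctx.two_hall (hprime v hvτ) hv hH (H := E.map f) ⟨E.map f, le_rfl, ⟨⟨⟨?_⟩⟩, ?_⟩, ?_⟩
    · rintro ⟨_, a, ha, rfl⟩ ⟨_, b, hb, rfl⟩
      exact Subtype.ext ((commute_of_mem hEe ha hb).map f).eq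
    · rintro _ ⟨a, ha, rfl⟩
      rw [← map_pow, hEe.2 a ha, map_one]
    · rw [← hE2]
      refine (Nat.card_congr (Equiv.ofBijective (f.subgroupMap E) ⟨?_, f.subgroupMap_surjective E⟩)).symm
      rw [injective_iff_map_eq_one]
      intro a ha
      refine Subtype.ext (hker a ?_ (congrArg Subtype.val ha))
      exact Nat.Coprime.coprime_dvd_left (orderOf_dvd_of_pow_eq_one (hEe.2 a a.2))
        ((Nat.coprime_primes (hprime v hvτ) (hprime p hp)).mpr hvp)
  have hpair : ∀ u v, (u = q ∨ u = r ∨ u = s) → (v = q ∨ v = r ∨ v = s) → u ≠ v →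
      ∃ x ∈ H, ∃ c ∈ H, orderOf x = u ∧ orderOf c = v ∧ Commute x c := by
    intro u v hu hv huv
    obtain ⟨huτ, hup⟩ := hmem u hu
    obtain ⟨hvτ, hvp⟩ := hmem v hv
    obtain ⟨x, c, hx, hc', hxc⟩ :=
      exists_commuting (hprime u huτ) (hprime v hvτ) (h2 u huτ v hvτ huv)
    exact pair_hall (hprime u huτ) (hprime v hvτ) huv hu hv hH (hord x u huτ hup hx)
      (hord c v hvτ hvp hc') (hxc.map f)
  have hfaith : H ⊓ centralizer (V : Set (G ⧸ N)) = ⊥ := by
    rw [hcen, eq_bot_iff]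
    intro y hy
    obtain ⟨hyH, hyV⟩ := Subgroup.mem_inf.mp hy
    rw [Subgroup.mem_bot]
    by_contra hy1
    have hpm : p ∈ π := hH.1 p (hprime p hp)
      ((dvd_orderOf_of_mem (isPGroup_of_exp hV.2) hyV hy1).trans (dvd_card_of_mem hyH rfl))
    exact (hmem p hpm).2 rfl
  have hV1 : V ≠ ⊥ := fun hb => by
    obtain ⟨E, hEH, -, hE2⟩ := htwo q (Or.inl rfl)
    have hbot : H = ⊥ := by
      rw [← hfaith, hb]
      simp
      exact fun y _ => centralizer_singleton_iff.mpr (Commute.one_right y)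
    rw [hbot, le_bot_iff] at hEH
    rw [hEH, card_bot] at hE2
    exact (Nat.one_lt_pow two_ne_zero (hprime q hq).one_lt).ne hE2
  exact Ctx.absurd_ctx (σ := (τ : Set ℕ)) (p := p) (q := q) (r := r) (s := s) (V := V) (H := H)
    { tri := tri_of_noTriple hprime h3', hp := hprime p hp, hq := hprime q hq, hr := hprime r hr,
      hs := hprime s hs, mp := hp, mq := hq, mr := hr, ms := hs, npq := hqp.symm, npr := hrp.symm,
      nps := hsp.symm, nqr := hqr, nqs := hqs, nrs := hrs, vn := hVn, hV := hV, hV1 := hV1,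
      faith := hfaith, primes := hH.1, twoq := htwo q (Or.inl rfl),
      twor := htwo r (Or.inr (Or.inl rfl)), twos := htwo s (Or.inr (Or.inr rfl)),
      pairqr := hpair q r (Or.inl rfl) (Or.inr (Or.inl rfl)) hqr,
      pairqs := hpair q s (Or.inl rfl) (Or.inr (Or.inr rfl)) hqs,
      pairrs := hpair r s (Or.inr (Or.inl rfl)) (Or.inr (Or.inr rfl)) hrs }

theorem false_of_pi_group.{u} {G : Type u} [Group G] [Finite G] [Group.IsSolvable G] {τ : Finset ℕ}
    (hcard : τ.card = 4) (hprime : ∀ p ∈ τ, p.Prime)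
    (h2 : ∀ p ∈ τ, ∀ q ∈ τ, p ≠ q → ∃ g : G, orderOf g = p * q) (h3 : NoTriple τ G)
    (hG : ∀ u : ℕ, u.Prime → u ∣ Nat.card G → u ∈ τ) : False := by
  obtain ⟨p₀, hp₀⟩ : τ.Nonempty := Finset.card_pos.mp (by omega)
  obtain ⟨q₀, hq₀, hne₀⟩ : ∃ q ∈ τ, q ≠ p₀ := Finset.exists_mem_ne (by omega) p₀
  haveI : Nontrivial G := by
    obtain ⟨g, hg⟩ := h2 p₀ hp₀ q₀ hq₀ hne₀.symm
    refine ⟨g, 1, fun he => ?_⟩
    rw [he, orderOf_one] at hg
    exact (hprime p₀ hp₀).ne_one (Nat.eq_one_of_mul_eq_one_right hg.symm)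
  obtain ⟨p, hpp, hpd, hpO⟩ := CfsgLib.Fitting.exists_pCore_ne_bot (G := G)
  have hp := hG p hpp hpd
  by_cases honly : ∀ u ∈ τ, u ≠ p → Cfsg.pCore u G = ⊥
  · exact false_single_core hcard hprime h2 h3 hG hp honly
  push Not at honly
  obtain ⟨r, hr, hrp, hrO⟩ := honly
  obtain ⟨V, hVn, hV1, hV⟩ := exists_elementary_core hpp hpO
  obtain ⟨U, hUn, hU1, hU⟩ := exists_elementary_core (hprime r hr) hrO
  have hc2 : ((τ.erase p).erase r).card = 2 := by
    rw [Finset.card_erase_of_mem (Finset.mem_erase.mpr ⟨hrp, hr⟩), Finset.card_erase_of_mem hp, hcard]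
  obtain ⟨q, s, hqs, heq⟩ := Finset.card_eq_two.mp hc2
  have hmem : ∀ v, v = q ∨ v = s → v ∈ τ ∧ v ≠ p ∧ v ≠ r := fun v hv => by
    have : v ∈ (τ.erase p).erase r := by rw [heq]; simpa using hv
    simp only [Finset.mem_erase] at this
    exact ⟨this.2.2, this.2.1, this.1⟩
  obtain ⟨hq, hqp, hqr⟩ := hmem q (Or.inl rfl)
  obtain ⟨hs, hsp, hsr⟩ := hmem s (Or.inr rfl)
  obtain ⟨M, hM⟩ := CfsgLib.Hall.exists_isPiHall (G := G) {v | v = q ∨ v = s}
  exact Pair.absurd_pair (σ := (τ : Set ℕ)) (p := p) (r := r) (q := q) (s := s) (V := V) (U := U)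
    (M := M)
    { tri := tri_of_noTriple hprime h3, hp := hpp, hr := hprime r hr, hq := hprime q hq,
      hs := hprime s hs, mp := hp, mr := hr, mq := hq, ms := hs, npr := hrp.symm, npq := hqp.symm,
      nps := hsp.symm, nrq := hqr.symm, nrs := hsr.symm, nqs := hqs, vn := hVn, un := hUn, hV := hV,
      hU := hU, hV1 := hV1, hU1 := hU1, primes := hM.1,
      twoq := Ctx.two_hall (hprime q hq) (Or.inl rfl) hM (two_top hcard hprime h2 h3 hq),
      twos := Ctx.two_hall (hprime s hs) (Or.inr rfl) hM (two_top hcard hprime h2 h3 hs) }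

/-- The criterion for nonsolubility. -/
theorem not_solvable.{u} {G : Type u} [Group G] [Finite G] (σ : Finset ℕ) (hσ : 4 ≤ σ.card)
    (hprime : ∀ p ∈ σ, p.Prime)
    (h2 : ∀ p ∈ σ, ∀ q ∈ σ, p ≠ q → ∃ g : G, orderOf g = p * q) (h3 : NoTriple σ G) :
    ¬ Group.IsSolvable G := by
  intro hsol
  obtain ⟨τ, hτσ, hτ⟩ := Finset.exists_subset_card_eq hσ
  obtain ⟨H, hH⟩ := CfsgLib.Hall.exists_isPiHall (G := G) (τ : Set ℕ)
  refine false_of_pi_group (G := H) hτ (fun p hp => hprime p (hτσ hp)) (fun p hp q hq hne => ?_)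
    (fun a ha b hb c hc h1 h2' h4 g hg =>
      h3 a (hτσ ha) b (hτσ hb) c (hτσ hc) h1 h2' h4 g ((Subgroup.orderOf_coe g).trans hg))
    (fun u hu hd => Finset.mem_coe.mp (hH.1 u hu hd))
  obtain ⟨g, hg⟩ := h2 p (hτσ hp) q (hτσ hq) hne
  obtain ⟨k, hk⟩ := CfsgLib.Hall.exists_conj_le_isPiHall hH (U := zpowers g) fun w hw hd => by
    rw [Nat.card_zpowers, hg] at hd
    rcases hw.dvd_mul.mp hd with hd | hd
    · exact (Nat.prime_dvd_prime_iff_eq hw (hprime p (hτσ hp))).mp hd ▸ hp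
    · exact (Nat.prime_dvd_prime_iff_eq hw (hprime q (hτσ hq))).mp hd ▸ hq
  refine ⟨⟨MulAut.conj k g, hk (smul_mem_pointwise_smul g (MulAut.conj k) (zpowers g)
    (mem_zpowers g))⟩, ?_⟩
  rw [Subgroup.orderOf_mk, MulEquiv.orderOf_eq, hg]

end CfsgLib.FourPrimes
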