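import Cfsg.Agent.Lib.Structure.FpfModule
import Cfsg.Agent.Lib.Coprime.HyperplaneGeneration
import Cfsg.Agent.Lib.Generation.Coprime
import Cfsg.Agent.Lib.Spectrum.Solvable
import Cfsg.Agent.Lib.Hall.Pi
import Cfsg.Agent.Lib.Solvable.Fitting
import Cfsg.Agent.Lib.ConstStab.Basic
import Cfsg.Agent.Lib.OddOrder41.NormalElementary

/-!
Tools for groups without commuting elements of three different prime orders: fixed points of
commuting pairs on modules, generation by centralizers of elementary subgroups of order `s ^ 2`.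
-/

set_option autoImplicit false
set_option linter.style.haveILetI false

namespace CfsgLib.FourPrimes

open Subgroup
open scoped commutatorElement IsMulCommutative

variable {G : Type*} [Group G]

/-- No three pairwise commuting elements of three different prime orders from `σ`. -/
def Tri (σ : Set ℕ) (G : Type*) [Group G] : Prop :=
  ∀ a b c : G, Commute a b → Commute a c → Commute b c → orderOf a ∈ σ → orderOf b ∈ σ →
    orderOf c ∈ σ → orderOf a ≠ orderOf b → orderOf a ≠ orderOf c → orderOf b ≠ orderOf c → False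

/-- `g` fixes a nontrivial element of `X`. -/
def Fix (X : Subgroup G) (g : G) : Prop := ∃ v ∈ X, v ≠ 1 ∧ Commute g v

/-- `H` contains an elementary abelian subgroup of order `s ^ 2`. -/
def Two (s : ℕ) (H : Subgroup G) : Prop :=
  ∃ E : Subgroup G, E ≤ H ∧ Cfsg.IsElementaryAbelian s E ∧ Nat.card E = s ^ 2

theorem Two.mono {s : ℕ} {H K : Subgroup G} (h : Two s H) (hle : H ≤ K) : Two s K :=
  h.imp fun _ hE => ⟨hE.1.trans hle, hE.2⟩

theorem commute_of_mem {s : ℕ} {E : Subgroup G} (hE : Cfsg.IsElementaryAbelian s E) {a b : G}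
    (ha : a ∈ E) (hb : b ∈ E) : Commute a b :=
  congrArg Subtype.val (haveI := hE.1; mul_comm' (⟨a, ha⟩ : E) ⟨b, hb⟩)

theorem isPGroup_of_exp {p : ℕ} {X : Subgroup G} (h : ∀ x ∈ X, x ^ p = 1) : IsPGroup p X :=
  fun x => ⟨1, Subtype.ext (by simpa using h x x.2)⟩

theorem coprime_of_isPGroup [Finite G] {p s : ℕ} [Fact p.Prime] (hs : s.Prime) (hps : p ≠ s)
    {X : Subgroup G} (h : IsPGroup p X) : (Nat.card X).Coprime s := by
  obtain ⟨n, hn⟩ := IsPGroup.iff_card.mp h
  rw [hn]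
  exact ((Nat.coprime_primes Fact.out hs).mpr hps).pow_left n

theorem orderOf_eq_of_mem [Finite G] {s : ℕ} [hs : Fact s.Prime] {E : Subgroup G}
    (hE : Cfsg.IsElementaryAbelian s E) {e : G} (he : e ∈ E) (he1 : e ≠ 1) : orderOf e = s :=
  ((Nat.dvd_prime hs.out).mp (orderOf_dvd_of_pow_eq_one (hE.2 e he))).resolve_left
    (fun h => he1 (orderOf_eq_one_iff.mp h))

theorem dvd_orderOf_of_mem [Finite G] {q : ℕ} [hq : Fact q.Prime] {H : Subgroup G}
    (hH : IsPGroup q H) {d : G} (hd : d ∈ H) (hd1 : d ≠ 1) : q ∣ orderOf d := by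
  obtain ⟨k, hk⟩ := IsPGroup.iff_orderOf.1 hH ⟨d, hd⟩
  rw [Subgroup.orderOf_mk] at hk
  rcases k with _ | k
  · exact absurd (orderOf_eq_one_iff.1 (by simpa using hk)) hd1
  · exact hk ▸ dvd_pow_self q (Nat.succ_ne_zero k)

/-- The triangle condition for elements whose orders are divisible by three different primes. -/
theorem Tri.false_of_dvd [Finite G] {σ : Set ℕ} (hT : Tri σ G) {p q r : ℕ} (hp : p ∈ σ)
    (hq : q ∈ σ) (hr : r ∈ σ) (hpq : p ≠ q) (hpr : p ≠ r) (hqr : q ≠ r) {a b c : G}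
    (hab : Commute a b) (hac : Commute a c) (hbc : Commute b c) (ha : p ∣ orderOf a)
    (hb : q ∣ orderOf b) (hc : r ∣ orderOf c) : False := by
  have h1 := orderOf_pow_orderOf_div (orderOf_pos a).ne' ha
  have h2 := orderOf_pow_orderOf_div (orderOf_pos b).ne' hb
  have h3 := orderOf_pow_orderOf_div (orderOf_pos c).ne' hc
  exact hT _ _ _ (hab.pow_pow _ _) (hac.pow_pow _ _) (hbc.pow_pow _ _) (h1 ▸ hp) (h2 ▸ hq)
    (h3 ▸ hr) (by rw [h1, h2]; exact hpq) (by rw [h1, h3]; exact hpr) (by rw [h2, h3]; exact hqr)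

theorem centralizer_singleton_iff {g x : G} :
    g ∈ Subgroup.centralizer ({x} : Set G) ↔ Commute g x := by
  rw [mem_centralizer_iff]
  simp only [Set.mem_singleton_iff, forall_eq]
  exact ⟨fun h => h.symm, fun h => h.symm⟩

/-- `g` normalises the centralizer of `x` when it commutes with `x`. -/
theorem mem_normalizer_inf_centralizer {X : Subgroup G} {g x : G}
    (hg : g ∈ normalizer (X : Set G)) (hgx : Commute g x) :
    g ∈ normalizer ((X ⊓ Subgroup.centralizer ({x} : Set G) : Subgroup G) : Set G) := by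
  have key : ∀ g, g ∈ normalizer (X : Set G) → Commute g x → ∀ a ∈ X ⊓ Subgroup.centralizer ({x} : Set G),
      g * a * g⁻¹ ∈ X ⊓ Subgroup.centralizer ({x} : Set G) := fun g hg hgx a ha =>
    Subgroup.mem_inf.mpr ⟨(mem_normalizer_iff.1 hg a).1 (Subgroup.mem_inf.mp ha).1,
      centralizer_singleton_iff.mpr
        ((hgx.mul_left (centralizer_singleton_iff.mp (Subgroup.mem_inf.mp ha).2)).mul_left hgx.inv_left)⟩
  refine mem_normalizer_iff.2 fun a => ⟨key g hg hgx a, fun h => ?_⟩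
  have := key g⁻¹ (inv_mem hg) hgx.inv_left _ h
  convert this using 1
  group

/-- An element of prime order without fixed points on an elementary abelian group centralises a
`q`-group modulo the centralizer of that group. -/
theorem comm_mem_centralizer [Finite G] {s q ℓ : ℕ} [Fact s.Prime] [Fact q.Prime] [Fact ℓ.Prime]
    (hsq : s ≠ q) (hsl : s ≠ ℓ) (hql : q ≠ ℓ) {V Y : Subgroup G}
    (hV : Cfsg.IsElementaryAbelian ℓ V) (hY : IsPGroup q Y) {c : G} (hc : orderOf c = s)
    (hcY : c ∈ normalizer (Y : Set G)) (hYV : Y ≤ normalizer (V : Set G))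
    (hcV : c ∈ normalizer (V : Set G)) (hexc : q = 2 → ∀ a ∈ Y, ∀ b ∈ Y, a * b = b * a)
    (hfix : ¬ Fix V c) : ∀ y ∈ Y, y * c * y⁻¹ * c⁻¹ ∈ centralizer (V : Set G) := by
  haveI := hV.1
  have hfix' : V ⊓ Subgroup.centralizer (zpowers c : Set G) = ⊥ := by
    rw [eq_bot_iff]
    rintro v ⟨hv, hv'⟩
    rw [Subgroup.mem_bot]
    by_contra hne
    exact hfix ⟨v, hv, hne, mem_centralizer_iff.mp hv' c (mem_zpowers c)⟩
  have h := CfsgLib.Structure.commutator_le_centralizer_of_fpf_exc ℓ V (p := s) (q := q) hsq hsl hql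
    Y (zpowers c) hY (by rw [Nat.card_zpowers, hc]) hV.2 (fun h2 _ => hexc h2) (zpowers_le.mpr hcY)
    (sup_le hYV (zpowers_le.mpr hcV)) hfix'
  intro y hy
  have := h (commutator_mem_commutator hy (mem_zpowers c))
  rwa [commutatorElement_def] at this

/-- A fixed point free element centralises a `q`-group acting faithfully. -/
theorem commute_of_not_fix [Finite G] {s q ℓ : ℕ} [Fact s.Prime] [Fact q.Prime] [Fact ℓ.Prime]
    (hsq : s ≠ q) (hsl : s ≠ ℓ) (hql : q ≠ ℓ) {V Y : Subgroup G}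
    (hV : Cfsg.IsElementaryAbelian ℓ V) (hY : IsPGroup q Y) {c : G} (hc : orderOf c = s)
    (hcY : c ∈ normalizer (Y : Set G)) (hYV : Y ≤ normalizer (V : Set G))
    (hcV : c ∈ normalizer (V : Set G)) (hexc : q = 2 → ∀ a ∈ Y, ∀ b ∈ Y, a * b = b * a)
    (hfix : ¬ Fix V c) (hfaith : Y ⊓ centralizer (V : Set G) = ⊥) : ∀ y ∈ Y, Commute c y := by
  intro y hy
  have h1 := comm_mem_centralizer hsq hsl hql hV hY hc hcY hYV hcV hexc hfix y hy
  have h2 : y * c * y⁻¹ * c⁻¹ ∈ Y := by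
    rw [show y * c * y⁻¹ * c⁻¹ = y * (c * y⁻¹ * c⁻¹) by group]
    exact Y.mul_mem hy ((mem_normalizer_iff.1 hcY _).1 (Y.inv_mem hy))
  have h3 : y * c * y⁻¹ * c⁻¹ = 1 := by
    rw [← Subgroup.mem_bot, ← hfaith]; exact ⟨h2, h1⟩
  exact (mul_inv_eq_iff_eq_mul.mp (mul_inv_eq_one.mp h3)).symm

/-- Some element of an elementary group of order `s ^ 2` fixes a nontrivial element. -/
theorem exists_fix [Finite G] {s : ℕ} [hs : Fact s.Prime] {E X : Subgroup G}
    (hE : Cfsg.IsElementaryAbelian s E) (hE2 : Nat.card E = s ^ 2)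
    (hEX : E ≤ normalizer (X : Set G)) (hX : (Nat.card X).Coprime s) (hX1 : X ≠ ⊥) :
    ∃ e ∈ E, orderOf e = s ∧ Fix X e := by
  have h1 : 1 < s ^ 2 := Nat.one_lt_pow two_ne_zero hs.out.one_lt
  obtain ⟨U, hUE, hco, hne⟩ := CfsgLib.Generation.exists_coatom_fixed (p := s) (U := E) (R := X) hE.1 hE.2
    (fun h => by rw [h, card_bot] at hE2; omega) hEX hX hX1
  obtain ⟨⟨e, he⟩, he1⟩ := Subgroup.ne_bot_iff_exists_ne_one.mp (show U ≠ ⊥ by
    rintro rfl
    rw [bot_subgroupOf] at hco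
    obtain ⟨a, ha⟩ := exists_prime_orderOf_dvd_card' (G := E) s (hE2 ▸ dvd_pow_self s two_ne_zero)
    have hb : zpowers a ≠ ⊥ := fun h => by
      rw [zpowers_eq_bot] at h; rw [h, orderOf_one] at ha; exact hs.out.ne_one ha.symm
    have htop := hco.2 (zpowers a) (bot_lt_iff_ne_bot.mpr hb)
    have := Nat.card_zpowers a
    rw [htop, card_top, hE2, ha] at this
    have := hs.out.one_lt
    nlinarith)
  obtain ⟨⟨v, hv⟩, hv1⟩ := Subgroup.ne_bot_iff_exists_ne_one.mp hne
  refine ⟨e, hUE he, orderOf_eq_of_mem hE (hUE he) (fun h => he1 (Subtype.ext h)), v,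
    (Subgroup.mem_inf.mp hv).1, fun h => hv1 (Subtype.ext h), ?_⟩
  exact mem_centralizer_iff.mp (Subgroup.mem_inf.mp hv).2 e he

/-- Generation by the centralizers of the nontrivial elements of an elementary group of order `s ^ 2`. -/
theorem le_of_centralizers_le [Finite G] {s : ℕ} [hs : Fact s.Prime] {E X S : Subgroup G}
    (hE : Cfsg.IsElementaryAbelian s E) (hE2 : Nat.card E = s ^ 2)
    (hEX : E ≤ normalizer (X : Set G)) (hX : (Nat.card X).Coprime s)
    (h : ∀ e ∈ E, orderOf e = s → X ⊓ Subgroup.centralizer ({e} : Set G) ≤ S) : X ≤ S := by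
  have h1 : 1 < s ^ 2 := Nat.one_lt_pow two_ne_zero hs.out.one_lt
  rw [← CfsgLib.Coprime39.eq_hyperCent hE (fun hb => by rw [hb, card_bot] at hE2; omega) hX hEX]
  refine iSup_le fun ⟨B, hB, hBi⟩ => ?_
  obtain ⟨⟨e, he⟩, he1⟩ := Subgroup.ne_bot_iff_exists_ne_one.mp (show B ≠ ⊥ by
    rintro rfl
    rw [relIndex_bot_left, hE2] at hBi
    have := hs.out.one_lt
    nlinarith)
  refine le_trans (inf_le_inf_left X (centralizer_le ?_))
    (h e (hB he) (orderOf_eq_of_mem hE (hB he) (fun h => he1 (Subtype.ext h))))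
  exact Set.singleton_subset_iff.mpr he

/-- In an elementary group of order `s ^ 2`, the elements commuting with a given element not
centralised by the whole group are powers of one of them. -/
theorem mem_zpowers_of_proper [Finite G] {s : ℕ} [hs : Fact s.Prime] {E : Subgroup G}
    (hE : Cfsg.IsElementaryAbelian s E) (hE2 : Nat.card E = s ^ 2) {z : G}
    (hne : ∃ d ∈ E, ¬ Commute d z) {c e : G} (hc : c ∈ E) (hc1 : c ≠ 1) (hcz : Commute c z)
    (he : e ∈ E) (hez : Commute e z) : e ∈ zpowers c := by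
  set D : Subgroup G := E ⊓ Subgroup.centralizer ({z} : Set G)
  have hcD : zpowers c ≤ D := zpowers_le.mpr
    (Subgroup.mem_inf.mpr ⟨hc, centralizer_singleton_iff.mpr hcz⟩)
  obtain ⟨i, hi, hDi⟩ := (Nat.dvd_prime_pow hs.out).mp
    (hE2 ▸ card_dvd_of_le (inf_le_left : D ≤ E))
  have hcc : Nat.card (zpowers c) = s := by
    rw [Nat.card_zpowers, orderOf_eq_of_mem hE hc hc1]
  have hge := Subgroup.card_le_of_le hcD
  rw [hcc, hDi] at hge
  have hi2 : i = 1 := by
    rcases Nat.lt_or_ge i 2 with h | h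
    · interval_cases i
      · rw [pow_zero] at hge; have := hs.out.one_lt; omega
      · rfl
    · exfalso
      obtain rfl : i = 2 := le_antisymm hi h
      have hDE : D = E := eq_of_le_of_card_ge inf_le_left (by rw [hE2, hDi])
      obtain ⟨d, hd, hdz⟩ := hne
      exact hdz (centralizer_singleton_iff.mp (Subgroup.mem_inf.mp (hDE.symm ▸ hd : d ∈ D)).2)
  have hDc : zpowers c = D := eq_of_le_of_card_ge hcD (by rw [hcc, hDi, hi2, pow_one])
  rw [hDc]
  exact Subgroup.mem_inf.mpr ⟨he, centralizer_singleton_iff.mpr hez⟩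

/-- An element whose order is prime to `φ(|Z|)` centralises a cyclic group it normalises. -/
theorem commute_of_cyclic [Finite G] {Z : Subgroup G} [IsCyclic Z] {g : G}
    (hg : g ∈ normalizer (Z : Set G)) (hco : (orderOf g).Coprime (Nat.card Z).totient) :
    ∀ z ∈ Z, Commute g z := by
  have h1 : Z.normalizerMonoidHom ⟨g, hg⟩ = 1 := by
    rw [← orderOf_eq_one_iff, ← Nat.dvd_one, ← hco.gcd_eq_one]
    refine Nat.dvd_gcd ?_ ?_
    · have := orderOf_map_dvd Z.normalizerMonoidHom ⟨g, hg⟩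
      rwa [Subgroup.orderOf_mk] at this
    · rw [← IsCyclic.card_mulAut Z]
      exact orderOf_dvd_natCard _
  intro z hz
  have h2 := congrArg Subtype.val (DFunLike.congr_fun h1 ⟨z, hz⟩)
  have h3 : g * z * g⁻¹ = z := h2
  exact mul_inv_eq_iff_eq_mul.mp h3

theorem commute_of_normal_prime [Finite G] {r : ℕ} (hr : r.Prime) {z g : G} (hz : orderOf z = r)
    (hg : g ∈ normalizer (zpowers z : Set G)) (hco : (orderOf g).Coprime (r - 1)) : Commute g z :=
  commute_of_cyclic hg (by rwa [Nat.card_zpowers, hz, Nat.totient_prime hr]) z (mem_zpowers z)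

/-- An elementary group of order at least `s ^ 2` contains one of order `s ^ 2`. -/
theorem two_or_card_eq [Finite G] {s : ℕ} [hs : Fact s.Prime] {B : Subgroup G}
    (hB : Cfsg.IsElementaryAbelian s B) (hB1 : B ≠ ⊥) : Nat.card B = s ∨ Two s B := by
  obtain ⟨n, hn⟩ := IsPGroup.iff_card.mp (isPGroup_of_exp hB.2)
  rcases Nat.lt_or_ge n 2 with h | h
  · left
    interval_cases n
    · exact absurd (Subgroup.card_eq_one.mp (by simpa using hn)) hB1
    · simpa using hn
  · right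
    obtain ⟨E, hE⟩ := Sylow.exists_subgroup_card_pow_prime (G := B) s (n := 2)
      (hn ▸ pow_dvd_pow s h)
    refine ⟨E.map B.subtype, map_subtype_le _, ⟨⟨⟨fun a b => Subtype.ext
      (commute_of_mem hB (map_subtype_le _ a.2) (map_subtype_le _ b.2))⟩⟩,
      fun a ha => hB.2 a (map_subtype_le _ ha)⟩,
      by rw [Subgroup.card_map_of_injective B.subtype_injective, hE]⟩

/-- Two commuting elementary groups of order `r ^ 2`, `q ^ 2` cannot normalise a `p`-group. -/
theorem no_two_two [Finite G] {σ : Set ℕ} (hT : Tri σ G) {p q r : ℕ} [Fact p.Prime] [Fact q.Prime]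
    [Fact r.Prime] (hp : p ∈ σ) (hq : q ∈ σ) (hr : r ∈ σ) (hpq : p ≠ q) (hpr : p ≠ r) (hqr : q ≠ r)
    {V E F : Subgroup G} (hV : IsPGroup p V) (hV1 : V ≠ ⊥) (hE : Two q E) (hF : Two r F)
    (hEV : E ≤ normalizer (V : Set G)) (hFV : F ≤ normalizer (V : Set G))
    (hEF : ∀ a ∈ E, ∀ b ∈ F, Commute a b) : False := by
  obtain ⟨E, hE0, hEe, hE2⟩ := hE
  obtain ⟨F, hF0, hFe, hF2⟩ := hF
  obtain ⟨e, he, heo, v, hv, hv1, hev⟩ := exists_fix hEe hE2 (hE0.trans hEV)
    (coprime_of_isPGroup Fact.out hpq hV) hV1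
  set U := V ⊓ Subgroup.centralizer ({e} : Set G)
  have hU1 : U ≠ ⊥ := fun h => hv1 (by
    have : v ∈ U := Subgroup.mem_inf.mpr ⟨hv, centralizer_singleton_iff.mpr hev.symm⟩
    rwa [h, Subgroup.mem_bot] at this)
  obtain ⟨f, hf, hfo, u, hu, hu1, hfu⟩ := exists_fix hFe hF2
    (fun b hb => mem_normalizer_inf_centralizer (hFV (hF0 hb)) (hEF e (hE0 he) b (hF0 hb)).symm)
    (coprime_of_isPGroup Fact.out hpr (hV.to_le inf_le_left)) hU1
  exact hT.false_of_dvd hq hr hp hqr (Ne.symm hpq) (Ne.symm hpr) (hEF e (hE0 he) f (hF0 hf))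
    (centralizer_singleton_iff.mp (Subgroup.mem_inf.mp hu).2).symm hfu (dvd_of_eq heo.symm)
    (dvd_of_eq hfo.symm) (dvd_orderOf_of_mem hV (Subgroup.mem_inf.mp hu).1 hu1)

/-- Of a commuting pair of elements of prime orders normalising an abelian `q`-group which acts
faithfully, one centralises it. -/
theorem pair_centralizes [Finite G] {σ : Set ℕ} (hT : Tri σ G) {p q r s : ℕ} [hpF : Fact p.Prime]
    [hqF : Fact q.Prime] [hrF : Fact r.Prime] [hsF : Fact s.Prime] (hp : p ∈ σ) (hq : q ∈ σ)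
    (hr : r ∈ σ) (hs : s ∈ σ) (hpq : p ≠ q) (hpr : p ≠ r) (hps : p ≠ s) (hqr : q ≠ r) (hqs : q ≠ s)
    (hrs : r ≠ s) {V A : Subgroup G} [V.Normal] (hV : Cfsg.IsElementaryAbelian p V)
    (hA : IsPGroup q A) (hAc : IsMulCommutative A) (hfaith : A ⊓ centralizer (V : Set G) = ⊥)
    {x c : G} (hx : orderOf x = r) (hc : orderOf c = s) (hxc : Commute x c)
    (hxA : x ∈ normalizer (A : Set G)) (hcA : c ∈ normalizer (A : Set G)) :
    (∀ a ∈ A, Commute x a) ∨ (∀ a ∈ A, Commute c a) := by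
  classical
  haveI := hV.1
  haveI := hAc
  have hNV : ∀ g : G, g ∈ normalizer (V : Set G) := fun g => by rw [normalizer_eq_top]; trivial
  have hexA : q = 2 → ∀ a ∈ A, ∀ b ∈ A, a * b = b * a := fun _ a ha b hb =>
    congrArg Subtype.val (mul_comm' (⟨a, ha⟩ : A) ⟨b, hb⟩)
  by_cases hfx : Fix V x
  swap
  · exact Or.inl (commute_of_not_fix hqr.symm hpr.symm hpq.symm hV hA hx hxA (fun g _ => hNV g)
      (hNV x) hexA hfx hfaith)
  by_cases hfc : Fix V c
  swap
  · exact Or.inr (commute_of_not_fix hqs.symm hps.symm hpq.symm hV hA hc hcA (fun g _ => hNV g)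
      (hNV c) hexA hfc hfaith)
  have hVp : IsPGroup p V := isPGroup_of_exp hV.2
  -- a fixed point of `x` on `A` is trivial
  have free : ∀ (x c : G) (r s : ℕ) [Fact r.Prime] [Fact s.Prime], r ∈ σ → s ∈ σ → p ≠ r → p ≠ s →
      q ≠ r → q ≠ s → r ≠ s → orderOf x = r → orderOf c = s → Commute x c →
      c ∈ normalizer (A : Set G) → Fix V x → ∀ a ∈ A, Commute x a → a = 1 := by
    intro x c r s _ _ hr hs hpr hps hqr hqs hrs hx hc hxc hcA hfx a ha hxa
    obtain ⟨v, hv, hv1, hxv⟩ := hfx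
    by_contra ha1
    have hfixU : ¬ Fix (V ⊓ Subgroup.centralizer ({x} : Set G)) c := by
      rintro ⟨w, hw, hw1, hcw⟩
      exact hT.false_of_dvd hr hs hp hrs hpr.symm hps.symm hxc
        (centralizer_singleton_iff.mp (Subgroup.mem_inf.mp hw).2).symm hcw (dvd_of_eq hx.symm)
        (dvd_of_eq hc.symm) (dvd_orderOf_of_mem hVp (Subgroup.mem_inf.mp hw).1 hw1)
    have hmemD : a ∈ A ⊓ Subgroup.centralizer ({x} : Set G) :=
      Subgroup.mem_inf.mpr ⟨ha, centralizer_singleton_iff.mpr hxa.symm⟩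
    have h1 := comm_mem_centralizer hqs.symm hps.symm hpq.symm
      (V := V ⊓ Subgroup.centralizer ({x} : Set G))
      (Y := A ⊓ Subgroup.centralizer ({x} : Set G))
      ⟨⟨⟨fun v w => Subtype.ext (commute_of_mem hV (Subgroup.mem_inf.mp v.2).1
        (Subgroup.mem_inf.mp w.2).1)⟩⟩, fun v hv => hV.2 v (Subgroup.mem_inf.mp hv).1⟩
      (hA.to_le inf_le_left) hc (mem_normalizer_inf_centralizer hcA hxc.symm)
      (fun b hb => mem_normalizer_inf_centralizer (hNV b)
        (centralizer_singleton_iff.mp (Subgroup.mem_inf.mp hb).2))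
      (mem_normalizer_inf_centralizer (hNV c) hxc.symm)
      (fun h2 a ha b hb => hexA h2 a (Subgroup.mem_inf.mp ha).1 b (Subgroup.mem_inf.mp hb).1)
      hfixU a hmemD
    by_cases hd : a * c * a⁻¹ * c⁻¹ = 1
    · exact hT.false_of_dvd hr hs hq hrs hqr.symm hqs.symm hxc hxa
        (mul_inv_eq_iff_eq_mul.mp (mul_inv_eq_one.mp hd)).symm (dvd_of_eq hx.symm)
        (dvd_of_eq hc.symm) (dvd_orderOf_of_mem hA ha ha1)
    · have hdA : a * c * a⁻¹ * c⁻¹ ∈ A := by
        rw [show a * c * a⁻¹ * c⁻¹ = a * (c * a⁻¹ * c⁻¹) by group]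
        exact A.mul_mem ha ((mem_normalizer_iff.1 hcA _).1 (A.inv_mem ha))
      have hdx : Commute x (a * c * a⁻¹ * c⁻¹) :=
        ((hxa.mul_right hxc).mul_right hxa.inv_right).mul_right hxc.inv_right
      exact hT.false_of_dvd hr hq hp hqr.symm hpr.symm hpq.symm hdx hxv
        (mem_centralizer_iff.mp h1 v
          (Subgroup.mem_inf.mpr ⟨hv, centralizer_singleton_iff.mpr hxv.symm⟩)).symm
        (dvd_of_eq hx.symm) (dvd_orderOf_of_mem hA hdA hd) (dvd_orderOf_of_mem hVp hv hv1)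
  have hx_free := free x c r s hr hs hpr hps hqr hqs hrs hx hc hxc hcA hfx
  have hc_free := free c x s r hs hr hps hpr hqs hqr hrs.symm hc hx hxc.symm hxA hfc
  set g := x * c with hgdef
  have hgn : g ^ (r * s) = 1 := by
    rw [hgdef, hxc.mul_pow, pow_mul, ← hx, pow_orderOf_eq_one, one_pow, one_mul, mul_comm,
      pow_mul, ← hc, pow_orderOf_eq_one, one_pow]
  have hgA : ∀ i : ℕ, g ^ i ∈ normalizer (A : Set G) := fun i => pow_mem (mul_mem hxA hcA) i
  have hpow : ∀ i : ℕ, 0 < i → i < r * s → ∀ a ∈ A, Commute (g ^ i) a → a = 1 := by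
    intro i hi hlt a ha hca
    by_cases hri : r ∣ i
    · have hsi : ¬ s ∣ i := fun hsi => by
        have := Nat.le_of_dvd hi (((Nat.coprime_primes hrF.out hsF.out).mpr hrs).mul_dvd_of_dvd_of_dvd
          hri hsi)
        omega
      have h1 : Commute (c ^ (i * r)) a := by
        have h := hca.pow_left r
        rw [← pow_mul, hgdef, hxc.mul_pow, mul_comm i r, pow_mul x, ← hx, pow_orderOf_eq_one,
          one_pow, one_mul, hx] at h
        rwa [mul_comm]
      have hco : Nat.Coprime (i * r) s := Nat.Coprime.mul_left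
        ((hsF.out.coprime_iff_not_dvd.mpr hsi).symm) ((Nat.coprime_primes hrF.out hsF.out).mpr hrs)
      obtain ⟨m, hm⟩ := exists_pow_eq_self_of_coprime (x := c) (hc ▸ hco)
      exact hc_free a ha (by rw [← hm]; exact h1.pow_left m)
    · have h1 : Commute (x ^ (i * s)) a := by
        have h := hca.pow_left s
        rw [← pow_mul, hgdef, hxc.mul_pow, mul_comm i s, pow_mul c, ← hc, pow_orderOf_eq_one,
          one_pow, mul_one, hc] at h
        rwa [mul_comm]
      have hco : Nat.Coprime (i * s) r := Nat.Coprime.mul_left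
        ((hrF.out.coprime_iff_not_dvd.mpr hri).symm)
        ((Nat.coprime_primes hsF.out hrF.out).mpr hrs.symm)
      obtain ⟨m, hm⟩ := exists_pow_eq_self_of_coprime (x := x) (hx ▸ hco)
      exact hx_free a ha (by rw [← hm]; exact h1.pow_left m)
  have hfpf : ∀ v ∈ V, Commute g v → v = 1 := by
    intro v hv hgv
    by_contra hv1
    have h1 : Commute (x ^ s) v := by
      have := hgv.pow_left s
      rwa [hgdef, hxc.mul_pow, ← hc, pow_orderOf_eq_one, mul_one, hc] at this
    obtain ⟨m, hm⟩ := exists_pow_eq_self_of_coprime (x := x) (n := s)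
      (hx ▸ (Nat.coprime_primes hsF.out hrF.out).mpr hrs.symm)
    have hxv : Commute x v := by rw [← hm]; exact h1.pow_left m
    have hcv : Commute c v := by
      have := hxv.inv_left.mul_left hgv
      rwa [hgdef, inv_mul_cancel_left] at this
    exact hT.false_of_dvd hr hs hp hrs hpr.symm hps.symm hxc hxv hcv (dvd_of_eq hx.symm)
      (dvd_of_eq hc.symm) (dvd_orderOf_of_mem hVp hv hv1)
  let ψ : G →* MulAut V := MulAut.conjNormal
  have hψ : ∀ (h : G) (v : V), ((ψ h v : V) : G) = h * (v : G) * h⁻¹ := fun h v =>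
    MulAut.conjNormal_apply h v
  haveI : Fintype A := Fintype.ofFinite A
  set n := r * s with hn
  have hS : ∀ (a : A) (v : V),
      ∏ i ∈ Finset.range n, ψ (((a : G) * g * (a : G)⁻¹) ^ i) v = 1 := by
    intro a v
    set h := (a : G) * g * (a : G)⁻¹ with hh
    set S := ∏ i ∈ Finset.range n, ψ (h ^ i) v with hSdef
    have hfixS : ψ h S = S := by
      rw [hSdef, map_prod]
      have h1 := Finset.prod_range_succ (fun i => ψ (h ^ i) v) n
      have h2 := Finset.prod_range_succ' (fun i => ψ (h ^ i) v) n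
      have h3 : h ^ n = h ^ 0 := by rw [hh, conj_pow, hgn, pow_zero]; group
      simp only [h3] at h1
      rw [← mul_right_cancel (h2.symm.trans h1)]
      exact Finset.prod_congr rfl fun i _ => by
        show ψ h (ψ (h ^ i) v) = _
        rw [← MulAut.mul_apply, ← map_mul, ← pow_succ']
    have h4 := congrArg Subtype.val hfixS
    rw [hψ] at h4
    generalize S = T at h4 ⊢
    have h5 : Commute g ((a : G)⁻¹ * (T : G) * a) := by
      show g * ((a : G)⁻¹ * (T : G) * a) = (a : G)⁻¹ * (T : G) * a * g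
      calc g * ((a : G)⁻¹ * (T : G) * a) = (a : G)⁻¹ * (h * T * h⁻¹) * a * g := by rw [hh]; group
        _ = _ := by rw [h4]
    have h6 := hfpf _ (by
      have := (inferInstance : V.Normal).conj_mem _ T.2 (a : G)⁻¹
      simpa using this) h5
    apply Subtype.ext
    calc (T : G) = (a : G) * ((a : G)⁻¹ * (T : G) * a) * (a : G)⁻¹ := by group
      _ = 1 := by rw [h6]; group
  let Nv : V → V := fun w => ∏ a : A, ψ (a : G) w
  have hNv : ∀ (b : A) (w : V), ψ (b : G) (Nv w) = Nv w := by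
    intro b w
    show ψ (b : G) (∏ a : A, ψ (a : G) w) = ∏ a : A, ψ (a : G) w
    rw [map_prod]
    refine Fintype.prod_equiv (Equiv.mulLeft b) _ _ fun a => ?_
    show _ = ψ ((b * a : A) : G) w
    rw [Subgroup.coe_mul, map_mul]; rfl
  have hterm : ∀ (i : ℕ), 0 < i → i < n → ∀ v : V,
      ∏ a : A, ψ (((a : G) * g * (a : G)⁻¹) ^ i) v = Nv (ψ (g ^ i) v) := by
    intro i hi hlt v
    let β : A →* A :=
      { toFun := fun a => ⟨(a : G) * (g ^ i * (a : G)⁻¹ * (g ^ i)⁻¹), A.mul_mem a.2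
          ((mem_normalizer_iff.1 (hgA i) _).1 (A.inv_mem a.2))⟩
        map_one' := Subtype.ext (by simp)
        map_mul' := fun a b => Subtype.ext (by
          have hm : ∀ u ∈ A, ∀ w ∈ A, u * w = w * u := fun u hu w hw =>
            congrArg Subtype.val (mul_comm' (⟨u, hu⟩ : A) ⟨w, hw⟩)
          show (a : G) * b * (g ^ i * ((a : G) * b)⁻¹ * (g ^ i)⁻¹) =
            (a : G) * (g ^ i * (a : G)⁻¹ * (g ^ i)⁻¹) * ((b : G) * (g ^ i * (b : G)⁻¹ * (g ^ i)⁻¹))
          have hmemb : g ^ i * (b : G)⁻¹ * (g ^ i)⁻¹ ∈ A :=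
            (mem_normalizer_iff.1 (hgA i) _).1 (A.inv_mem b.2)
          have hmema : g ^ i * (a : G)⁻¹ * (g ^ i)⁻¹ ∈ A :=
            (mem_normalizer_iff.1 (hgA i) _).1 (A.inv_mem a.2)
          calc (a : G) * b * (g ^ i * ((a : G) * b)⁻¹ * (g ^ i)⁻¹)
              = (a : G) * b * ((g ^ i * (b : G)⁻¹ * (g ^ i)⁻¹) * (g ^ i * (a : G)⁻¹ * (g ^ i)⁻¹)) := by
                group
            _ = (a : G) * ((b : G) * (g ^ i * (a : G)⁻¹ * (g ^ i)⁻¹)) *
                  (g ^ i * (b : G)⁻¹ * (g ^ i)⁻¹) := by rw [hm _ hmemb _ hmema]; group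
            _ = _ := by rw [hm _ b.2 _ hmema]; group) }
    have hinj : Function.Injective β := by
      rw [injective_iff_map_eq_one]
      intro a ha
      refine Subtype.ext (hpow i hi hlt a a.2 ?_)
      have h1 : (a : G) * (g ^ i * (a : G)⁻¹ * (g ^ i)⁻¹) = 1 := congrArg Subtype.val ha
      show g ^ i * (a : G) = (a : G) * g ^ i
      calc g ^ i * (a : G) = (a : G) * (g ^ i * (a : G)⁻¹ * (g ^ i)⁻¹) * (g ^ i * (a : G)) := by
            rw [h1, one_mul]
        _ = _ := by group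
    refine Fintype.prod_equiv (Equiv.ofBijective β (Finite.injective_iff_bijective.mp hinj)) _ _
      fun a => ?_
    show ψ (((a : G) * g * (a : G)⁻¹) ^ i) v = ψ ((β a : A) : G) (ψ (g ^ i) v)
    rw [← MulAut.mul_apply, ← map_mul, conj_pow]
    congr 2
    show _ = (a : G) * (g ^ i * (a : G)⁻¹ * (g ^ i)⁻¹) * g ^ i
    group
  have hcop : (Nat.card A).Coprime p := coprime_of_isPGroup hpF.out hpq.symm hA
  have hcent : A ≤ centralizer (V : Set G) := by
    intro b hb
    rw [mem_centralizer_iff]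
    intro v₀ hv₀
    let v : V := ⟨v₀, hv₀⟩
    have htot : ∏ i ∈ Finset.range n, ∏ a : A, ψ (((a : G) * g * (a : G)⁻¹) ^ i) v = 1 := by
      rw [Finset.prod_comm]
      exact Finset.prod_eq_one fun a _ => hS a v
    have hn0 : 0 ∈ Finset.range n :=
      Finset.mem_range.mpr (Nat.mul_pos hrF.out.pos hsF.out.pos)
    rw [← Finset.mul_prod_erase _ _ hn0] at htot
    set R := ∏ i ∈ (Finset.range n).erase 0, ∏ a : A, ψ (((a : G) * g * (a : G)⁻¹) ^ i) v with hR
    have hfixR : ψ b R = R := by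
      rw [hR, map_prod]
      refine Finset.prod_congr rfl fun i hi => ?_
      obtain ⟨hi0, hilt⟩ := Finset.mem_erase.mp hi
      rw [hterm i (Nat.pos_of_ne_zero hi0) (Finset.mem_range.mp hilt)]
      exact hNv ⟨b, hb⟩ _
    have h0 : ∏ a : A, ψ (((a : G) * g * (a : G)⁻¹) ^ 0) v = v ^ Nat.card A := by
      simp [Nat.card_eq_fintype_card]
    rw [h0] at htot
    have hfix : ψ b v ^ Nat.card A = v ^ Nat.card A := by
      rw [← map_pow, eq_inv_of_mul_eq_one_left htot, map_inv, hfixR]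
    have h1 : (ψ b v * v⁻¹) ^ Nat.card A = 1 := by rw [mul_pow, inv_pow, hfix, mul_inv_cancel]
    have h2 : (ψ b v * v⁻¹) ^ p = 1 := Subtype.ext (hV.2 _ (ψ b v * v⁻¹).2)
    have h3 : ψ b v * v⁻¹ = 1 := by
      rw [← orderOf_eq_one_iff, ← Nat.dvd_one, ← hcop.gcd_eq_one]
      exact Nat.dvd_gcd (orderOf_dvd_of_pow_eq_one h1) (orderOf_dvd_of_pow_eq_one h2)
    have h4 := congrArg Subtype.val (mul_inv_eq_one.mp h3)
    rw [hψ] at h4
    exact (mul_inv_eq_iff_eq_mul.mp h4).symm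
  left
  intro a ha
  have : a = 1 := by rw [← Subgroup.mem_bot, ← hfaith]; exact ⟨ha, hcent ha⟩
  rw [this]
  exact Commute.one_right x

/-- An element centralising an abelian `q`-group on which a partner acts nontrivially has no fixed
points. -/
theorem not_fix_of_centralizes [Finite G] {σ : Set ℕ} (hT : Tri σ G) {p q r s : ℕ}
    [hpF : Fact p.Prime] [Fact q.Prime] [Fact r.Prime] [Fact s.Prime] (hp : p ∈ σ) (hq : q ∈ σ)
    (hr : r ∈ σ) (hs : s ∈ σ) (hpq : p ≠ q) (hpr : p ≠ r) (hps : p ≠ s) (hqr : q ≠ r) (hqs : q ≠ s)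
    (hrs : r ≠ s) {V A : Subgroup G} [V.Normal] (hV : Cfsg.IsElementaryAbelian p V)
    (hA : IsPGroup q A) (hAc : IsMulCommutative A)
    {x c : G} (hx : orderOf x = r) (hc : orderOf c = s) (hxc : Commute x c)
    (hxA : ∀ a ∈ A, Commute x a) (hcA : c ∈ normalizer (A : Set G))
    (hne : ∃ a ∈ A, ¬ Commute c a) : ¬ Fix V x := by
  rintro ⟨v, hv, hv1, hxv⟩
  haveI := hAc
  have hNV : ∀ g : G, g ∈ normalizer (V : Set G) := fun g => by rw [normalizer_eq_top]; trivial
  have hVp : IsPGroup p V := isPGroup_of_exp hV.2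
  obtain ⟨a, ha, hca⟩ := hne
  have hfixU : ¬ Fix (V ⊓ Subgroup.centralizer ({x} : Set G)) c := by
    rintro ⟨w, hw, hw1, hcw⟩
    exact hT.false_of_dvd hr hs hp hrs hpr.symm hps.symm hxc
      (centralizer_singleton_iff.mp (Subgroup.mem_inf.mp hw).2).symm hcw (dvd_of_eq hx.symm)
      (dvd_of_eq hc.symm) (dvd_orderOf_of_mem hVp (Subgroup.mem_inf.mp hw).1 hw1)
  have h1 := comm_mem_centralizer hqs.symm hps.symm hpq.symm
    (V := V ⊓ Subgroup.centralizer ({x} : Set G)) (Y := A)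
    ⟨⟨⟨fun v w => Subtype.ext (commute_of_mem hV (Subgroup.mem_inf.mp v.2).1
      (Subgroup.mem_inf.mp w.2).1)⟩⟩, fun v hv => hV.2 v (Subgroup.mem_inf.mp hv).1⟩
    hA hc hcA (fun b hb => mem_normalizer_inf_centralizer (hNV b) (hxA b hb).symm)
    (mem_normalizer_inf_centralizer (hNV c) hxc.symm)
    (fun _ a ha b hb => congrArg Subtype.val (mul_comm' (⟨a, ha⟩ : A) ⟨b, hb⟩)) hfixU a ha
  have hdA : a * c * a⁻¹ * c⁻¹ ∈ A := by
    rw [show a * c * a⁻¹ * c⁻¹ = a * (c * a⁻¹ * c⁻¹) by group]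
    exact A.mul_mem ha ((mem_normalizer_iff.1 hcA _).1 (A.inv_mem ha))
  have hd : a * c * a⁻¹ * c⁻¹ ≠ 1 := fun hd =>
    hca (mul_inv_eq_iff_eq_mul.mp (mul_inv_eq_one.mp hd)).symm
  exact hT.false_of_dvd hr hq hp hqr.symm hpr.symm hpq.symm (hxA _ hdA) hxv
    (mem_centralizer_iff.mp h1 v
      (Subgroup.mem_inf.mpr ⟨hv, centralizer_singleton_iff.mpr hxv.symm⟩)).symm
    (dvd_of_eq hx.symm) (dvd_orderOf_of_mem hA hdA hd) (dvd_orderOf_of_mem hVp hv hv1)

end CfsgLib.FourPrimes
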