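import Cfsg.Agent.Lib.Struct78.FourPrimes.Cores

/-!
A `{q, s}`-group acting on two commuting normal subgroups for two other primes.
-/

set_option autoImplicit false
set_option linter.style.haveILetI false

namespace CfsgLib.FourPrimes

open Subgroup

variable {G : Type*} [Group G]

/-- Two normal elementary subgroups `V`, `U` and a `{q, s}`-subgroup `M`. -/
structure Pair (σ : Set ℕ) (p r q s : ℕ) (V U M : Subgroup G) : Prop where
  tri : Tri σ G
  hp : p.Prime
  hr : r.Prime
  hq : q.Prime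
  hs : s.Prime
  mp : p ∈ σ
  mr : r ∈ σ
  mq : q ∈ σ
  ms : s ∈ σ
  npr : p ≠ r
  npq : p ≠ q
  nps : p ≠ s
  nrq : r ≠ q
  nrs : r ≠ s
  nqs : q ≠ s
  vn : V.Normal
  un : U.Normal
  hV : Cfsg.IsElementaryAbelian p V
  hU : Cfsg.IsElementaryAbelian r U
  hV1 : V ≠ ⊥
  hU1 : U ≠ ⊥
  primes : ∀ u : ℕ, u.Prime → u ∣ Nat.card M → u = q ∨ u = s
  twoq : Two q M
  twos : Two s M

namespace Pair

variable {σ : Set ℕ} {p r q s : ℕ} {V U M : Subgroup G}

theorem swapVU (h : Pair σ p r q s V U M) : Pair σ r p q s U V M :=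
  { tri := h.tri, hp := h.hr, hr := h.hp, hq := h.hq, hs := h.hs, mp := h.mr, mr := h.mp,
    mq := h.mq, ms := h.ms, npr := h.npr.symm, npq := h.nrq, nps := h.nrs, nrq := h.npq,
    nrs := h.nps, nqs := h.nqs, vn := h.un, un := h.vn, hV := h.hU, hU := h.hV, hV1 := h.hU1,
    hU1 := h.hV1, primes := h.primes, twoq := h.twoq, twos := h.twos }

theorem swapQS (h : Pair σ p r q s V U M) : Pair σ p r s q V U M :=
  { tri := h.tri, hp := h.hp, hr := h.hr, hq := h.hs, hs := h.hq, mp := h.mp, mr := h.mr,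
    mq := h.ms, ms := h.mq, npr := h.npr, npq := h.nps, nps := h.npq, nrq := h.nrs,
    nrs := h.nrq, nqs := h.nqs.symm, vn := h.vn, un := h.un, hV := h.hV, hU := h.hU, hV1 := h.hV1,
    hU1 := h.hU1, primes := fun u hu hd => (h.primes u hu hd).symm, twoq := h.twos,
    twos := h.twoq }

theorem normV (h : Pair σ p r q s V U M) (g : G) : g ∈ normalizer (V : Set G) := by
  rw [normalizer_eq_top_iff.mpr h.vn]; trivial

theorem commute_VU [Finite G] (h : Pair σ p r q s V U M) {v u : G} (hv : v ∈ V) (hu : u ∈ U) :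
    Commute v u := by
  refine commute_of_normal_of_disjoint V U h.vn h.un ?_ v u hv hu
  haveI := Fact.mk h.hp
  haveI := Fact.mk h.hr
  exact IsPGroup.disjoint_of_ne p r h.npr V U (isPGroup_of_exp h.hV.2) (isPGroup_of_exp h.hU.2)

/-- Nothing of order `q` fixes points on both modules. -/
theorem not_both [Finite G] (h : Pair σ p r q s V U M) {g : G} (hg : q ∣ orderOf g)
    (hv : Fix V g) (hu : Fix U g) : False := by
  haveI := Fact.mk h.hp
  haveI := Fact.mk h.hr
  obtain ⟨v, hv, hv1, hgv⟩ := hv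
  obtain ⟨u, hu, hu1, hgu⟩ := hu
  exact h.tri.false_of_dvd h.mq h.mp h.mr h.npq.symm h.nrq.symm h.npr hgv hgu (h.commute_VU hv hu) hg
    (dvd_orderOf_of_mem (isPGroup_of_exp h.hV.2) hv hv1)
    (dvd_orderOf_of_mem (isPGroup_of_exp h.hU.2) hu hu1)

theorem fix_of_mem_centralizer (h : Pair σ p r q s V U M) {g : G}
    (hg : g ∈ centralizer (V : Set G)) : Fix V g := by
  obtain ⟨⟨v, hv⟩, hv1⟩ := Subgroup.ne_bot_iff_exists_ne_one.mp h.hV1
  exact ⟨v, hv, fun he => hv1 (Subtype.ext he), (mem_centralizer_iff.mp hg v hv).symm⟩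

/-- A normalised subgroup of order `q` acts without fixed points. -/
theorem not_fix [Finite G] (h : Pair σ p r q s V U M) {a : G} (haM : a ∈ M) (ha : orderOf a = q)
    (hMa : M ≤ normalizer (zpowers a : Set G)) : ¬ Fix V a := by
  haveI := Fact.mk h.hp
  haveI := Fact.mk h.hr
  haveI := Fact.mk h.hq
  haveI := Fact.mk h.hs
  intro hfix
  obtain ⟨E, hEM, hEe, hE2⟩ := h.twos
  set X := V ⊓ centralizer (zpowers a : Set G)
  have hX1 : X ≠ ⊥ := fun hb => by
    obtain ⟨v, hv, hv1, hav⟩ := hfix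
    have : v ∈ X := Subgroup.mem_inf.mpr ⟨hv, mem_centralizer_iff.mpr fun b hb =>
      (commute_of_mem_zpowers hav hb).eq⟩
    rw [hb, Subgroup.mem_bot] at this
    exact hv1 this
  obtain ⟨e, he, heo, v, hv, hv1, hev⟩ := exists_fix hEe hE2
    (fun e he => mem_normalizer_inf (h.normV e) (hMa (hEM he)))
    (coprime_of_isPGroup h.hs h.nps ((isPGroup_of_exp h.hV.2).to_le inf_le_left)) hX1
  obtain ⟨hvV, hva⟩ := Subgroup.mem_inf.mp hv
  have hav : Commute a v := mem_centralizer_iff.mp hva a (mem_zpowers a)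
  have hvd := dvd_orderOf_of_mem (isPGroup_of_exp h.hV.2) hvV hv1
  have hnc : ¬ Commute e a := fun hc => h.tri.false_of_dvd h.ms h.mq h.mp h.nqs.symm h.nps.symm
    h.npq.symm hc hev hav (dvd_of_eq heo.symm) (dvd_of_eq ha.symm) hvd
  have hfixU : Fix U e := by
    by_contra hU
    refine hnc (commute_of_not_fix h.nqs.symm h.nrs.symm h.nrq.symm h.hU
      (IsPGroup.of_card (n := 1) (by rw [Nat.card_zpowers, ha, pow_one])) heo (hMa (hEM he))
      (fun g _ => h.swapVU.normV g) (h.swapVU.normV e) (fun _ x hx y hy => ?_) hU ?_ a (mem_zpowers a))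
    · obtain ⟨i, rfl⟩ := hx
      obtain ⟨j, rfl⟩ := hy
      exact ((Commute.refl a).zpow_zpow i j).eq
    · rw [eq_bot_iff]
      intro g hg
      rw [Subgroup.mem_bot]
      by_contra hg1
      obtain ⟨hga, hgU⟩ := Subgroup.mem_inf.mp hg
      exact h.not_both (dvd_of_eq ha.symm) ⟨v, hvV, hv1, hav⟩ (h.swapVU.fix_of_mem_centralizer
        (zpowers_le.mpr hgU (mem_zpowers_of_eq h.hq ha hga hg1)))
  exact h.swapQS.not_both (dvd_of_eq heo.symm) ⟨v, hvV, hv1, hev⟩ hfixU

/-- An element of order `s` centralises an abelian or odd `q`-group which acts faithfully. -/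
theorem commute_all [Finite G] (h : Pair σ p r q s V U M) {A : Subgroup G} {e : G}
    (he : orderOf e = s) (heA : e ∈ normalizer (A : Set G)) (hA : IsPGroup q A)
    (hexc : q = 2 → ∀ a ∈ A, ∀ b ∈ A, a * b = b * a) (hfV : A ⊓ centralizer (V : Set G) = ⊥)
    (hfU : A ⊓ centralizer (U : Set G) = ⊥) : ∀ a ∈ A, Commute e a := by
  haveI := Fact.mk h.hp
  haveI := Fact.mk h.hr
  haveI := Fact.mk h.hq
  haveI := Fact.mk h.hs
  by_cases hv : Fix V e
  · by_cases hu : Fix U e
    · exact absurd hu (h.swapQS.not_both (dvd_of_eq he.symm) hv)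
    · exact commute_of_not_fix h.nqs.symm h.nrs.symm h.nrq.symm h.hU hA he heA
        (fun g _ => h.swapVU.normV g) (h.swapVU.normV e) hexc hu hfU
  · exact commute_of_not_fix h.nqs.symm h.nps.symm h.npq.symm h.hV hA he heA
      (fun g _ => h.normV g) (h.normV e) hexc hv hfV

/-- A normalised elementary `q`-subgroup meets the centralizer of each module trivially or is cyclic. -/
theorem inf_centralizer_eq_bot [Finite G] (h : Pair σ p r q s V U M) {A : Subgroup G} (hAM : A ≤ M)
    (hMA : M ≤ normalizer (A : Set G)) (hA : Cfsg.IsElementaryAbelian q A) :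
    A ⊓ centralizer (V : Set G) = ⊥ := by
  haveI := Fact.mk h.hp
  haveI := Fact.mk h.hr
  haveI := Fact.mk h.hq
  haveI := Fact.mk h.hs
  by_contra hL
  set L := A ⊓ centralizer (V : Set G)
  have hLe : Cfsg.IsElementaryAbelian q L :=
    ⟨⟨⟨fun a b => Subtype.ext (commute_of_mem hA (Subgroup.mem_inf.mp a.2).1
      (Subgroup.mem_inf.mp b.2).1)⟩⟩, fun a ha => hA.2 a (Subgroup.mem_inf.mp ha).1⟩
  rcases two_or_card_eq hLe hL with hc | ⟨E, hEL, hEe, hE2⟩
  · obtain ⟨⟨a, ha⟩, ha1⟩ := Subgroup.ne_bot_iff_exists_ne_one.mp hL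
    have hao : orderOf a = q := orderOf_eq_of_mem hLe ha (fun he => ha1 (Subtype.ext he))
    have hza : zpowers a = L :=
      eq_of_le_of_card_ge (zpowers_le.mpr ha) (by rw [hc, Nat.card_zpowers, hao])
    refine h.not_fix (hAM (Subgroup.mem_inf.mp ha).1) hao (fun g hg => ?_)
      (h.fix_of_mem_centralizer (Subgroup.mem_inf.mp ha).2)
    rw [hza]
    exact mem_normalizer_inf (hMA hg) (h.normV g)
  · obtain ⟨e, he, heo, hfix⟩ := exists_fix hEe hE2 (fun g _ => h.swapVU.normV g)
      (coprime_of_isPGroup h.hq h.nrq (isPGroup_of_exp h.hU.2)) h.hU1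
    exact h.not_both (dvd_of_eq heo.symm)
      (h.fix_of_mem_centralizer (Subgroup.mem_inf.mp (hEL he)).2) hfix

/-- There is no noncyclic normalised elementary `q`-subgroup. -/
theorem not_two [Finite G] (h : Pair σ p r q s V U M) {A : Subgroup G} (hAM : A ≤ M)
    (hMA : M ≤ normalizer (A : Set G)) (hA : Cfsg.IsElementaryAbelian q A) : ¬ Two q A := by
  haveI := Fact.mk h.hp
  haveI := Fact.mk h.hr
  haveI := Fact.mk h.hq
  haveI := Fact.mk h.hs
  intro hE
  obtain ⟨F, hFM, hFe, hF2⟩ := h.twos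
  refine no_two_two h.tri h.mp h.mq h.ms h.npq h.nps h.nqs (isPGroup_of_exp h.hV.2) h.hV1 hE
    (F := F) ⟨F, le_rfl, hFe, hF2⟩ (fun g _ => h.normV g) (fun g _ => h.normV g) fun a ha f hf => ?_
  rcases eq_or_ne f 1 with rfl | hf1
  · exact Commute.one_right a
  · exact (h.commute_all (orderOf_eq_of_mem hFe hf hf1) (hMA (hFM hf)) (isPGroup_of_exp hA.2)
      (fun _ x hx y hy => (commute_of_mem hA hx hy).eq) (h.inf_centralizer_eq_bot hAM hMA hA)
      (h.swapVU.inf_centralizer_eq_bot hAM hMA hA) a ha).symm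

/-- Inside a normalised nontrivial subgroup some normalised subgroup of prime order. -/
theorem exists_gen [Finite G] [Group.IsSolvable G] (h : Pair σ p r q s V U M) {N : Subgroup G}
    (hNM : N ≤ M) (hMN : M ≤ normalizer (N : Set G)) (hN : N ≠ ⊥) :
    ∃ a ∈ N, (orderOf a = q ∨ orderOf a = s) ∧ M ≤ normalizer (zpowers a : Set G) := by
  obtain ⟨W, u, hu, hWN, hW1, hMW, hWe, hud⟩ := exists_elementary hNM hMN hN
  haveI := Fact.mk hu
  have hWM := hWN.trans hNM
  have hu' := h.primes u hu (hud.trans (card_dvd_of_le hWM))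
  have hc : Nat.card W = u := by
    refine (two_or_card_eq hWe hW1).resolve_right ?_
    rcases hu' with rfl | rfl
    · exact h.not_two hWM hMW hWe
    · exact h.swapQS.not_two hWM hMW hWe
  obtain ⟨⟨a, ha⟩, ha1⟩ := Subgroup.ne_bot_iff_exists_ne_one.mp hW1
  have hao : orderOf a = u := orderOf_eq_of_mem hWe ha (fun he => ha1 (Subtype.ext he))
  have hza : zpowers a = W :=
    eq_of_le_of_card_ge (zpowers_le.mpr ha) (by rw [hc, Nat.card_zpowers, hao])
  exact ⟨a, hWN ha, hao ▸ hu', hza ▸ hMW⟩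

theorem faithful [Finite G] [Group.IsSolvable G] (h : Pair σ p r q s V U M) :
    M ⊓ centralizer (V : Set G) = ⊥ := by
  by_contra hN
  obtain ⟨a, ha, hao, hMa⟩ := h.exists_gen inf_le_left
    (fun g hg => mem_normalizer_inf (le_normalizer hg) (h.normV g)) hN
  obtain ⟨haM, haV⟩ := Subgroup.mem_inf.mp ha
  rcases hao with hao | hao
  · exact h.not_fix haM hao hMa (h.fix_of_mem_centralizer haV)
  · exact h.swapQS.not_fix haM hao hMa (h.fix_of_mem_centralizer haV)

/-- An involution without fixed points inverts a module. -/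
theorem conj_eq_inv (h : Pair σ p r q s V U M) {t v : G} (ht : t * t = 1) (hfix : ¬ Fix V t)
    (hv : v ∈ V) : t * v * t⁻¹ = v⁻¹ := by
  have hv' : t * v * t⁻¹ ∈ V := h.vn.conj_mem v hv t
  have hti : t⁻¹ = t := inv_eq_of_mul_eq_one_right ht
  by_contra hne
  refine hfix ⟨v * (t * v * t⁻¹), V.mul_mem hv hv', fun h1 => hne ?_, ?_⟩
  · exact eq_inv_of_mul_eq_one_right h1
  · have hc := commute_of_mem h.hV hv hv'
    show t * (v * (t * v * t⁻¹)) = v * (t * v * t⁻¹) * t
    have h2 : v * (t * v * t⁻¹) * t = t * v * t⁻¹ * v * t := by rw [hc.eq]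
    rw [h2]
    simp only [mul_assoc, hti]

/-- There is no normalised subgroup of order `2`. -/
theorem q_ne_two [Finite G] [Group.IsSolvable G] (h : Pair σ p r q s V U M) {a : G} (haM : a ∈ M)
    (ha : orderOf a = q) (hMa : M ≤ normalizer (zpowers a : Set G)) : q ≠ 2 := by
  intro hq2
  haveI := Fact.mk h.hp
  haveI := Fact.mk h.hr
  haveI := Fact.mk h.hq
  obtain ⟨E, hEM, hEe, hE2⟩ := h.twoq
  obtain ⟨t, htE, hta⟩ : ∃ t ∈ E, t ∉ zpowers a := by
    by_contra hcon
    push Not at hcon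
    have := Subgroup.card_le_of_le (show E ≤ zpowers a from hcon)
    rw [hE2, Nat.card_zpowers, ha, hq2] at this
    omega
  have ht1 : t ≠ 1 := fun he => hta (he ▸ one_mem _)
  have hto := orderOf_eq_of_mem hEe htE ht1
  have hc : Commute t a := commute_of_normal_prime h.hq ha (hMa (hEM htE))
    (by rw [hto, hq2]; decide)
  have ht2 : t * t = 1 := by rw [← pow_two, ← hq2]; exact hEe.2 t htE
  have ha2 : a * a = 1 := by rw [← pow_two, ← hq2, ← ha]; exact pow_orderOf_eq_one a
  have hkey : ∀ {p r : ℕ} {V U : Subgroup G}, Pair σ p r q s V U M → Fix V t := by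
    intro p r V U h
    by_contra hfix
    have hmem : t * a ∈ M ⊓ centralizer (V : Set G) := by
      refine Subgroup.mem_inf.mpr ⟨M.mul_mem (hEM htE) haM, mem_centralizer_iff.mpr fun v hv => ?_⟩
      have h1 := h.conj_eq_inv ha2 (h.not_fix haM ha hMa) hv
      have h2 := h.conj_eq_inv ht2 hfix (V.inv_mem hv)
      rw [inv_inv] at h2
      have h3 : t * a * v * (t * a)⁻¹ = v := by
        calc t * a * v * (t * a)⁻¹ = t * (a * v * a⁻¹) * t⁻¹ := by group
          _ = v := by rw [h1, h2]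
      exact (mul_inv_eq_iff_eq_mul.mp h3).symm
    rw [h.faithful, Subgroup.mem_bot] at hmem
    exact hta (mul_eq_one_iff_eq_inv.mp hmem ▸ inv_mem (mem_zpowers a))
  exact h.not_both (dvd_of_eq hto.symm) (hkey h) (hkey h.swapVU)

/-- The cores of `M` are cyclic. -/
theorem isCyclic_coreOf [Finite G] [Group.IsSolvable G] (h : Pair σ p r q s V U M) :
    IsCyclic (coreOf q M) := by
  haveI := Fact.mk h.hp
  haveI := Fact.mk h.hr
  haveI := Fact.mk h.hq
  haveI := Fact.mk h.hs
  by_contra hnc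
  have hYM := coreOf_le q M
  have hMY := le_normalizer_coreOf q M
  have hYp := coreOf_isPGroup (G := G) q M
  have hY1 : coreOf q M ≠ ⊥ := fun hb => hnc (by rw [hb]; exact isCyclic_of_subsingleton)
  have hq2 : q ≠ 2 := by
    obtain ⟨a, ha, hao, hMa⟩ := h.exists_gen hYM hMY hY1
    rcases hao with hao | hao
    · exact h.q_ne_two (hYM ha) hao hMa
    · have h1 : q ∣ orderOf a := dvd_orderOf_of_mem hYp ha (fun he => by
        rw [he, orderOf_one] at hao; exact h.hs.ne_one hao.symm)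
      rw [hao] at h1
      exact absurd ((Nat.prime_dvd_prime_iff_eq h.hq h.hs).mp h1) h.nqs
  obtain ⟨b, hb, hbo, hbc, w, hw, hwq, hwb⟩ := exists_of_not_cyclic hq2 hYp hnc
  have hE : Two q (coreOf q M) :=
    (two_sup hbo hwq (hbc w hw) hwb).2.mono (sup_le (zpowers_le.mpr hb) (zpowers_le.mpr hw))
  have hbot : ∀ {p r : ℕ} {V U : Subgroup G}, Pair σ p r q s V U M →
      coreOf q M ⊓ centralizer (V : Set G) = ⊥ := fun h =>
    eq_bot_iff.mpr (h.faithful ▸ inf_le_inf_right _ hYM)
  obtain ⟨F, hFM, hFe, hF2⟩ := h.twos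
  refine no_two_two h.tri h.mp h.mq h.ms h.npq h.nps h.nqs (isPGroup_of_exp h.hV.2) h.hV1 hE
    (F := F) ⟨F, le_rfl, hFe, hF2⟩ (fun g _ => h.normV g) (fun g _ => h.normV g) fun a ha f hf => ?_
  rcases eq_or_ne f 1 with rfl | hf1
  · exact Commute.one_right a
  · exact (h.commute_all (orderOf_eq_of_mem hFe hf hf1) (hMY (hFM hf)) hYp
      (fun h2 => absurd h2 hq2) (hbot h) (hbot h.swapVU) a ha).symm

theorem absurd_pair [Finite G] [Group.IsSolvable G] (h : Pair σ p r q s V U M) : False := by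
  have hcyc : ∀ u : ℕ, u.Prime → IsCyclic (coreOf u M) := fun u hu => by
    by_cases hd : u ∣ Nat.card M
    · rcases h.primes u hu hd with rfl | rfl
      · exact h.isCyclic_coreOf
      · exact h.swapQS.isCyclic_coreOf
    · rw [coreOf_eq_bot hu hd]
      exact isCyclic_of_subsingleton
  rcases lt_or_gt_of_ne h.nqs with hlt | hlt
  · haveI := Fact.mk h.hs
    exact no_two_largest hcyc (fun u hu hd => by
      rcases h.primes u hu hd with rfl | rfl <;> omega) h.twos
  · haveI := Fact.mk h.hq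
    exact no_two_largest hcyc (fun u hu hd => by
      rcases h.primes u hu hd with rfl | rfl <;> omega) h.twoq

end Pair

end CfsgLib.FourPrimes
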